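import Cfsg.Agent.Lib.DerangeIndex.Affine

/-!
The fixed-point-free affine case: either the index is small or the group is a Frobenius group.
-/

set_option autoImplicit false

open MulAction Subgroup

namespace CfsgLib.DerangeIndex

/-- A map which is piecewise given by a fixed-point-free group, with many points, is linear. -/
theorem linear_of_orbit {K V : Type*} [Group K] [Finite K] [AddCommGroup V] [Finite V]
    [DistribMulAction K V] (hfree : ∀ k : K, ∀ v : V, k • v = v → v ≠ 0 → k = 1) (f : V → V)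
    (hf0 : f 0 = 0) (hf : ∀ x y : V, ∃ σ : K, f x - f y = σ • (x - y))
    (hbig : Nat.card K * (Nat.card K - 2) + 1 < Nat.card V) :
    ∃ s : K, ∀ x : V, f x = s • x := by
  classical
  have := Fintype.ofFinite K
  have := Fintype.ofFinite V
  have hs : ∀ x : V, ∃ s : K, f x = s • x := fun x => by
    obtain ⟨σ, hσ⟩ := hf x 0
    exact ⟨σ, by simpa [hf0] using hσ⟩
  choose s hs using hs
  have huniq : ∀ (a b : K) (x : V), x ≠ 0 → a • x = b • x → a = b := by
    intro a b x hx he
    exact (inv_mul_eq_one.1 (hfree (b⁻¹ * a) x (by rw [mul_smul, he, inv_smul_smul]) hx)).symm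
  by_cases hconst : ∃ c : K, ∀ x : V, x ≠ 0 → s x = c
  · obtain ⟨c, hc⟩ := hconst
    refine ⟨c, fun x => ?_⟩
    by_cases hx : x = 0
    · rw [hx, hf0, smul_zero]
    · rw [hs, hc x hx]
  push Not at hconst
  exfalso
  set T : Finset V := Finset.univ.erase 0
  have hclass : ∀ b : K, (T.filter fun y => s y = b).card ≤ Fintype.card K - 2 := by
    intro b
    obtain ⟨x, hx, hxb⟩ := hconst b
    have hex : ∀ y, y ∈ T.filter (fun y => s y = b) → ∃ σ : K, σ ≠ s x ∧ σ ≠ b ∧
        s x • x - b • y = σ • (x - y) := by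
      intro y hy
      rw [Finset.mem_filter] at hy
      obtain ⟨σ, hσ⟩ := hf x y
      rw [hs x, hs y, hy.2] at hσ
      have hy0 := Finset.ne_of_mem_erase hy.1
      refine ⟨σ, fun e => hxb ?_, fun e => hxb ?_, hσ⟩
      · rw [e, smul_sub, sub_right_inj] at hσ
        exact (huniq b (s x) y hy0 hσ).symm
      · rw [e, smul_sub, sub_left_inj] at hσ
        exact huniq _ _ x hx hσ
    choose! g hg1 hg2 hg3 using hex
    have h1 := Finset.card_le_card_of_injOn g (s := T.filter fun y => s y = b)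
      (t := (Finset.univ.erase (s x)).erase b)
      (fun y hy => Finset.mem_erase.2 ⟨hg2 y (Finset.mem_coe.1 hy),
        Finset.mem_erase.2 ⟨hg1 y (Finset.mem_coe.1 hy), Finset.mem_univ _⟩⟩) ?_
    · rw [Finset.card_erase_of_mem (Finset.mem_erase.2 ⟨Ne.symm hxb, Finset.mem_univ _⟩),
        Finset.card_erase_of_mem (Finset.mem_univ _), Finset.card_univ] at h1
      omega
    · intro y hy y' hy' he
      rw [Finset.mem_coe] at hy hy'
      have e1 := hg3 y hy
      have e2 := hg3 y' hy'
      rw [← he] at e2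
      by_contra hne
      refine hg2 y hy (huniq (g y) b (y - y') (sub_ne_zero.2 hne) ?_)
      rw [smul_sub] at e1 e2
      rw [smul_sub, smul_sub]
      have e3 : g y • y = g y • x - (s x • x - b • y) := by rw [e1]; abel
      have e4 : g y • y' = g y • x - (s x • x - b • y') := by rw [e2]; abel
      rw [e3, e4]; abel
  have hT : T.card ≤ Fintype.card K * (Fintype.card K - 2) := by
    rw [Finset.card_eq_sum_card_fiberwise (f := s) (t := Finset.univ) fun y _ => Finset.mem_univ _]
    refine (Finset.sum_le_card_nsmul _ _ _ fun b _ => hclass b).trans ?_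
    rw [Finset.card_univ, smul_eq_mul]
  rw [Finset.card_erase_of_mem (Finset.mem_univ _), Finset.card_univ] at hT
  rw [Nat.card_eq_fintype_card, Nat.card_eq_fintype_card] at hbig
  omega

namespace Aff

variable {G : Type*} [Group G] [Finite G] {Ω : Type*} [MulAction G Ω] [Finite Ω]
variable {p : ℕ} {D P : Subgroup G} {a : Ω} (A : Aff p D P a)
  (hfree : ∀ k ∈ stabilizer G a ⊓ D ⊓ Subgroup.normalizer (P : Set G),
    ∀ v ∈ P, v ≠ 1 → Commute k v → k = 1)
include A hfree

/-- `|K₀| m ≤ n - 1`. -/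
theorem card_mul_index_lt (hn : 1 < Nat.card Ω) :
    D.index * Nat.card (stabilizer G a ⊓ D ⊓ Subgroup.normalizer (P : Set G) : Subgroup G) + 1 ≤
      Nat.card Ω := by
  set Y := stabilizer G a ⊓ Subgroup.normalizer (P : Set G)
  have hY : D.index * Nat.card (stabilizer G a ⊓ D ⊓ Subgroup.normalizer (P : Set G) : Subgroup G) =
      Nat.card Y := by
    rw [← A.index_eq, ← card_mul_index (D.subgroupOf Y), mul_comm]
    congr 1
    exact Nat.card_congr
      { toFun := fun x => ⟨⟨x.1, x.2.1.1, x.2.2⟩, x.2.1.2⟩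
        invFun := fun x => ⟨x.1.1, ⟨x.1.2.1, x.2⟩, x.1.2.2⟩
        left_inv := fun x => rfl
        right_inv := fun x => rfl }
  obtain ⟨δ, δ', hne⟩ := (Finite.one_lt_card_iff_nontrivial.1 hn).exists_pair_ne
  obtain ⟨v, hv, hv1⟩ : ∃ v ∈ P, v ≠ 1 := by
    by_contra hcon
    push Not at hcon
    obtain ⟨x, hx, rfl⟩ := A.exists_point δ
    obtain ⟨y, hy, rfl⟩ := A.exists_point δ'
    exact hne (by rw [hcon x hx, hcon y hy])
  have hconj : ∀ y : Y, (y : G) * v * (y : G)⁻¹ ∈ (P : Set G) \ {1} := fun y =>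
    ⟨(Subgroup.mem_normalizer_iff.1 y.2.2 v).1 hv, fun e => hv1 (conj_eq_one_iff.1 e)⟩
  have hle : Nat.card Y ≤ ((P : Set G) \ {1}).ncard := by
    rw [← Nat.card_coe_set_eq]
    refine Nat.card_le_card_of_injective (fun y : Y => (⟨_, hconj y⟩ : ((P : Set G) \ {1} : Set G)))
      fun y y' he => ?_
    have h1 : (y : G) * v * (y : G)⁻¹ = (y' : G) * v * (y' : G)⁻¹ := congrArg Subtype.val he
    have hw : Commute ((y' : G)⁻¹ * y) v := by
      show (y' : G)⁻¹ * y * v = v * ((y' : G)⁻¹ * y)
      calc (y' : G)⁻¹ * y * v = (y' : G)⁻¹ * ((y : G) * v * (y : G)⁻¹) * y := by group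
        _ = v * ((y' : G)⁻¹ * y) := by rw [h1]; group
    have hwY : (y' : G)⁻¹ * y ∈ Y := Y.mul_mem (Y.inv_mem y'.2) y.2
    refine Subtype.ext (inv_mul_eq_one.1 ?_).symm
    by_contra hne1
    by_cases hwD : (y' : G)⁻¹ * y ∈ D
    · exact hne1 (hfree _ ⟨⟨hwY.1, hwD⟩, hwY.2⟩ v hv hv1 hw)
    · exact hv1 (A.free_outside hwY.1 hwD hv hw)
  rw [Set.ncard_sdiff_singleton_of_mem (show (1 : G) ∈ (P : Set G) from P.one_mem),
    ← Nat.card_coe_set_eq, show Nat.card ((P : Set G) : Type _) = Nat.card P from rfl, A.card] at hle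
  rw [hY]
  omega

/-- The orbits of `K` are those of `K₀`. -/
theorem orbit_eq (hDtop : D ≠ ⊤) (hn : 1 < Nat.card Ω) {k : G} (hk : k ∈ D) (hka : k • a = a) (δ : Ω) :
    ∃ s ∈ stabilizer G a ⊓ D ⊓ Subgroup.normalizer (P : Set G), k • δ = s • δ := by
  classical
  by_cases hδa : δ = a
  · exact ⟨1, one_mem _, by rw [hδa, hka, one_smul]⟩
  have := Fintype.ofFinite Ω
  have := Fintype.ofFinite D
  have := A.trans
  set K0 := stabilizer G a ⊓ D ⊓ Subgroup.normalizer (P : Set G) with hK0
  have := Fintype.ofFinite K0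
  set K0' := K0.subgroupOf D
  set P' := P.subgroupOf D
  have hcardK : Nat.card K0' = Nat.card K0 :=
    Nat.card_congr (subgroupOfEquivOfLe (inf_le_left.trans inf_le_right : K0 ≤ D)).toEquiv
  have hrk := rank_of_TI (D := D) a P' K0'
    (fun x hx y hy => Subtype.ext (A.comm _ hx _ hy).eq)
    (fun x hx he => Subtype.ext (A.reg _ hx he))
    (by rw [Nat.card_congr (subgroupOfEquivOfLe A.le).toEquiv, A.card, Nat.card_eq_fintype_card])
    (fun v hv hv1 x hxv => by
      obtain ⟨q, hq, s, hs, he⟩ := A.exists_decomp_normalizer x.2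
        (A.mem_normalizer_of_conj hfree hv (fun e => hv1 (Subtype.ext e)) x.2 hxv)
      exact ⟨⟨q, A.le hq⟩, hq, ⟨s, hs.1.2⟩, hs, Subtype.ext he⟩)
    (fun s hs => by
      rw [Subgroup.mem_normalizer_iff]
      intro x
      exact Subgroup.mem_normalizer_iff.1 hs.2 (x : G))
    (fun s hs => hs.1.1)
    (fun s hs v hv hv1 hc => Subtype.ext (hfree _ hs _ hv (fun e => hv1 (Subtype.ext e)) (hc.map D.subtype)))
  rw [hcardK] at hrk
  set mk : Ω → orbitRel.Quotient (stabilizer D a) Ω := Quotient.mk''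
  have := Fintype.ofFinite (orbitRel.Quotient (stabilizer D a) Ω)
  have hmka : ∀ δ : Ω, mk δ = mk a ↔ δ = a := by
    refine fun δ => ⟨fun he => ?_, fun he => by rw [he]⟩
    obtain ⟨⟨t, ht⟩, rfl⟩ := orbitRel_apply.1 (Quotient.eq''.1 he)
    exact ht
  have himg : (Finset.univ.erase a).image mk = Finset.univ.erase (mk a) := by
    ext q
    induction q using Quotient.inductionOn' with | h x =>
    simp only [Finset.mem_image, Finset.mem_erase, Finset.mem_univ, and_true]
    exact ⟨fun ⟨y, hy, he⟩ h' => hy ((hmka y).1 (he.trans h')), fun h' => ⟨x, fun e => h' (by rw [e]), rfl⟩⟩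
  rcases hrk with hrk | hrk
  · exfalso
    have hcard1 : ((Finset.univ.erase a).image mk).card ≤ 1 := by
      rw [himg, Finset.card_erase_of_mem (Finset.mem_univ _), Finset.card_univ, ← Nat.card_eq_fintype_card]
      omega
    obtain ⟨y, hy, hyD⟩ := exists_not_mem A.cover hDtop
    have hya : y • a = a := hy.1
    have hyδ : y • δ ≠ a := fun e => hδa (MulAction.injective y (e.trans hya.symm))
    have he := Finset.card_le_one.1 hcard1 (mk (y • δ))
      (Finset.mem_image_of_mem _ (Finset.mem_erase.2 ⟨hyδ, Finset.mem_univ _⟩)) (mk δ)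
      (Finset.mem_image_of_mem _ (Finset.mem_erase.2 ⟨hδa, Finset.mem_univ _⟩))
    obtain ⟨⟨⟨t, htD⟩, ht⟩, htδ⟩ := orbitRel_apply.1 (Quotient.eq''.1 he)
    have hta : t • a = a := ht
    have htδ' : t • δ = y • δ := htδ
    refine hδa (A.fix.2 (t⁻¹ * y) (fun hm => hyD ?_) δ a ?_ ?_)
    · have := D.mul_mem htD hm
      rwa [mul_inv_cancel_left] at this
    · rw [mul_smul, ← htδ', inv_smul_smul]
    · rw [mul_smul, hya, inv_smul_eq_iff, hta]
  · set T := Finset.univ.erase a
    let fib : orbitRel.Quotient (stabilizer D a) Ω → Finset Ω := fun q => T.filter fun x => mk x = q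
    let orb : Ω → Finset Ω := fun x => (Finset.univ : Finset K0).image fun s : K0 => (s : G) • x
    have hfibge : ∀ x ∈ T, orb x ⊆ fib (mk x) ∧ (orb x).card = Nat.card K0 := by
      intro x hx
      have hxa := Finset.ne_of_mem_erase hx
      constructor
      · intro w hw
        obtain ⟨⟨s, hs⟩, -, rfl⟩ := Finset.mem_image.1 hw
        have hsa : s • a = a := hs.1.1
        refine Finset.mem_filter.2 ⟨Finset.mem_erase.2 ⟨fun e => hxa (MulAction.injective s (e.trans hsa.symm)),
          Finset.mem_univ _⟩, Quotient.eq''.2 (orbitRel_apply.2 ⟨⟨⟨s, hs.1.2⟩, hsa⟩, rfl⟩)⟩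
      · rw [Finset.card_image_of_injective, Finset.card_univ, Nat.card_eq_fintype_card]
        intro s s' he
        obtain ⟨v, hv, rfl⟩ := A.exists_point x
        have hw : ((s' : G)⁻¹ * s) • v • a = v • a := by
          rw [mul_smul, inv_smul_eq_iff]; exact he
        have hwK : (s' : G)⁻¹ * s ∈ K0 := K0.mul_mem (K0.inv_mem s'.2) s.2
        rw [smul_point hwK.1.1] at hw
        have hbij := A.bij.1 (a₁ := ⟨_, (Subgroup.mem_normalizer_iff.1 hwK.2 v).1 hv⟩) (a₂ := ⟨v, hv⟩) hw
        have hc : Commute ((s' : G)⁻¹ * s) v := mul_inv_eq_iff_eq_mul.1 (congrArg Subtype.val hbij)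
        exact Subtype.ext (inv_mul_eq_one.1
          (hfree _ hwK v hv (fun e => hxa (by rw [e, one_smul])) hc)).symm
    have hsum := Finset.card_eq_sum_card_image mk T
    have heq : ∑ q ∈ T.image mk, Nat.card K0 = ∑ q ∈ T.image mk, (fib q).card := by
      rw [← hsum, Finset.sum_const, smul_eq_mul, himg, Finset.card_erase_of_mem (Finset.mem_univ _),
        Finset.card_univ, Finset.card_erase_of_mem (Finset.mem_univ _), Finset.card_univ,
        ← Nat.card_eq_fintype_card]
      omega
    have hδT : δ ∈ T := Finset.mem_erase.2 ⟨hδa, Finset.mem_univ _⟩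
    have hfib : Nat.card K0 = (fib (mk δ)).card := by
      refine (Finset.sum_eq_sum_iff_of_le fun q hq => ?_).1 heq (mk δ) (Finset.mem_image_of_mem _ hδT)
      obtain ⟨x, hx, rfl⟩ := Finset.mem_image.1 hq
      rw [← (hfibge x hx).2]
      exact Finset.card_le_card (hfibge x hx).1
    have horb := Finset.eq_of_subset_of_card_le (hfibge δ hδT).1 (by rw [(hfibge δ hδT).2, hfib])
    have hkδ : k • δ ∈ orb δ := by
      rw [horb]
      refine Finset.mem_filter.2 ⟨Finset.mem_erase.2 ⟨fun e => hδa (MulAction.injective k (e.trans hka.symm)),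
        Finset.mem_univ _⟩, Quotient.eq''.2 (orbitRel_apply.2 ⟨⟨⟨k, hk⟩, hka⟩, rfl⟩)⟩
    obtain ⟨⟨s, hs⟩, -, he⟩ := Finset.mem_image.1 hkδ
    exact ⟨s, hs, he.symm⟩

/-- When the index is large, `D ⊓ stabilizer a` normalises `P`. -/
theorem le_normalizer_of_large (hDtop : D ≠ ⊤) (hn : 1 < Nat.card Ω)
    (hlarge : Nat.card Ω < (D.index + 1) ^ 2) :
    stabilizer G a ⊓ D ≤ Subgroup.normalizer (P : Set G) := by
  intro k hk
  set K0 := stabilizer G a ⊓ D ⊓ Subgroup.normalizer (P : Set G) with hK0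
  have hm := A.card_mul_index_lt hfree hn
  have hbig : Nat.card K0 * (Nat.card K0 - 2) + 1 < Nat.card Ω := by
    set e := Nat.card K0
    set m := D.index
    have he1 : 1 ≤ e := Nat.card_pos
    have hem : e ≤ m + 1 := by
      by_contra hgt
      have : m * (m + 2) ≤ m * e := Nat.mul_le_mul_left _ (by omega)
      nlinarith
    rcases le_or_gt e 2 with h | h
    · rw [show e - 2 = 0 by omega, mul_zero]; omega
    · have h1 : e * (e - 2) ≤ e * (m - 1) := Nat.mul_le_mul_left _ (by omega)
      rw [Nat.mul_sub, Nat.mul_sub, mul_one, mul_comm e m] at h1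
      rw [Nat.mul_sub]
      omega
  have hconj : ∀ (s : K0) (x : P), (s : G) * (x : G) * (s : G)⁻¹ ∈ P := fun s x =>
    (Subgroup.mem_normalizer_iff.1 s.2.2 _).1 x.2
  let _ : CommGroup P := { (inferInstance : Group P) with
    mul_comm := fun x y => Subtype.ext (A.comm x x.2 y y.2).eq }
  let _ : DistribMulAction K0 (Additive P) :=
    { smul := fun s x => Additive.ofMul ⟨(s : G) * (x.toMul : G) * (s : G)⁻¹, hconj s x.toMul⟩
      one_smul := fun x => Additive.toMul.injective (Subtype.ext (by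
        show ((1 : K0) : G) * (x.toMul : G) * ((1 : K0) : G)⁻¹ = (x.toMul : G)
        simp))
      mul_smul := fun s s' x => Additive.toMul.injective (Subtype.ext (by
        show ((s * s' : K0) : G) * (x.toMul : G) * ((s * s' : K0) : G)⁻¹ =
          (s : G) * ((s' : G) * (x.toMul : G) * (s' : G)⁻¹) * (s : G)⁻¹
        push_cast
        group))
      smul_zero := fun s => Additive.toMul.injective (Subtype.ext (by
        show (s : G) * ((1 : P) : G) * (s : G)⁻¹ = ((1 : P) : G)
        simp))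
      smul_add := fun s x x' => Additive.toMul.injective (Subtype.ext (by
        show (s : G) * ((x.toMul * x'.toMul : P) : G) * (s : G)⁻¹ =
          ((s : G) * (x.toMul : G) * (s : G)⁻¹) * ((s : G) * (x'.toMul : G) * (s : G)⁻¹)
        push_cast
        group)) }
  have hpt : ∀ (s : K0) (x : Additive P),
      (((s • x).toMul : P) : G) • a = (s : G) • ((x.toMul : P) : G) • a := by
    intro s x
    rw [smul_point s.2.1.1]
    rfl
  choose f hf using fun x : Additive P => A.bij.2 (k • ((x.toMul : P) : G) • a)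
  let F : Additive P → Additive P := fun x => Additive.ofMul (f x)
  have hF : ∀ x, (((F x).toMul : P) : G) • a = k • ((x.toMul : P) : G) • a := hf
  have hF0 : F 0 = 0 := by
    refine Additive.toMul.injective (A.bij.1 ?_)
    show (((F 0).toMul : P) : G) • a = ((1 : P) : G) • a
    rw [hF]
    show k • ((1 : P) : G) • a = ((1 : P) : G) • a
    rw [OneMemClass.coe_one, one_smul, (hk.1 : k • a = a)]
  have hFF : ∀ x y : Additive P, ∃ σ : K0, F x - F y = σ • (x - y) := by
    intro x y
    set d := (((F y).toMul : P) : G)⁻¹ * k * ((y.toMul : P) : G)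
    have hdD : d ∈ D := D.mul_mem (D.mul_mem (D.inv_mem (A.le (F y).toMul.2)) hk.2) (A.le y.toMul.2)
    have hda : d • a = a := by
      rw [show d • a = (((F y).toMul : P) : G)⁻¹ • k • ((y.toMul : P) : G) • a by
        simp only [d, mul_smul], ← hF, inv_smul_smul]
    obtain ⟨σ, hσ, he⟩ := A.orbit_eq hfree hDtop hn hdD hda ((((x - y).toMul : P) : G) • a)
    refine ⟨⟨σ, hσ⟩, Additive.toMul.injective (A.bij.1 ?_)⟩
    show (((F x - F y).toMul : P) : G) • a = (((⟨σ, hσ⟩ : K0) • (x - y)).toMul : P) • a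
    rw [show (((⟨σ, hσ⟩ : K0) • (x - y)).toMul : P) • a = σ • ((((x - y).toMul : P) : G) • a) from
      hpt ⟨σ, hσ⟩ (x - y), ← he]
    have hxy : ((y.toMul : P) : G) * (((x - y).toMul : P) : G) = ((x.toMul : P) : G) := by
      rw [← Subgroup.coe_mul, ← toMul_add, add_sub_cancel]
    have hFxy : (((F x - F y).toMul : P) : G) = (((F y).toMul : P) : G)⁻¹ * (((F x).toMul : P) : G) := by
      rw [← Subgroup.coe_inv, ← Subgroup.coe_mul, ← toMul_neg, ← toMul_add, neg_add_eq_sub]
    rw [hFxy, mul_smul, hF, ← hxy]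
    first
      | done
      | simp only [d, mul_smul]
  obtain ⟨s, hs⟩ := linear_of_orbit (K := K0) (V := Additive P)
    (fun s x he hx => by
      refine Subtype.ext (hfree s s.2 x.toMul x.toMul.2 (fun e => hx ?_) ?_)
      · exact Additive.toMul.injective (Subtype.ext e)
      · exact mul_inv_eq_iff_eq_mul.1 (congrArg (fun w : Additive P => ((w.toMul : P) : G)) he))
    F hF0 hFF (by rw [show Nat.card (Additive P) = Nat.card Ω from
      (Nat.card_congr Additive.toMul).trans A.card]; exact hbig)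
  have hks : k = (s : G) := by
    have := A.faith
    refine eq_of_smul_eq_smul fun δ : Ω => ?_
    obtain ⟨v, hv, rfl⟩ := A.exists_point δ
    have h1 := hF (Additive.ofMul ⟨v, hv⟩)
    rw [hs, hpt] at h1
    exact h1.symm
  rw [hks]
  exact s.2.2

/-- When the index is large no non-identity element fixes two points. -/
theorem frobenius (hDtop : D ≠ ⊤) (hn : 1 < Nat.card Ω) (hlarge : Nat.card Ω < (D.index + 1) ^ 2)
    {g : G} {δ δ' : Ω} (hne : δ ≠ δ') (hgδ : g • δ = δ) (hgδ' : g • δ' = δ') : g = 1 := by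
  have := A.normal
  have hgD : g ∈ D := by_contra fun h => hne (A.fix.2 g h δ δ' hgδ hgδ')
  obtain ⟨u, hu, rfl⟩ := A.exists_point δ
  set k := u⁻¹ * g * u
  have hka : k • a = a := by rw [mul_smul, mul_smul, hgδ, inv_smul_smul]
  have hkD : k ∈ D := D.mul_mem (D.mul_mem (D.inv_mem (A.le hu)) hgD) (A.le hu)
  obtain ⟨v, hv, hvδ⟩ := A.exists_point (u⁻¹ • δ')
  have hv1 : v ≠ 1 := fun e => hne (by
    rw [e, one_smul, eq_inv_smul_iff] at hvδ
    exact hvδ)
  have hkv : k • v • a = v • a := by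
    rw [hvδ, mul_smul, mul_smul, smul_inv_smul, hgδ']
  have hkN := A.le_normalizer_of_large hfree hDtop hn hlarge ⟨hka, hkD⟩
  rw [smul_point hka] at hkv
  have hbij := A.bij.1 (a₁ := ⟨_, (Subgroup.mem_normalizer_iff.1 hkN v).1 hv⟩) (a₂ := ⟨v, hv⟩) hkv
  have hk1 := hfree k ⟨⟨hka, hkD⟩, hkN⟩ v hv hv1 (mul_inv_eq_iff_eq_mul.1 (congrArg Subtype.val hbij))
  have : g = u * k * u⁻¹ := by simp only [k]; group
  rw [this, hk1, mul_one, mul_inv_cancel]

end Aff

end CfsgLib.DerangeIndex
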