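import Cfsg.Agent.Lib.DerangeIndex.Chain
import Cfsg.Agent.Lib.DerangeIndex.Fpf
import Cfsg.Agent.Lib.Derange.Basic

/-!
The index of the subgroup generated by the derangements of a transitive group.
-/

set_option autoImplicit false

open MulAction Subgroup

namespace CfsgLib.DerangeIndex

/-- A transitive `p`-subgroup normalised by part of a stabilizer covering `G/D` gives the affine case. -/
theorem exists_aff {G : Type*} [Group G] [Finite G] {Ω : Type*} [MulAction G Ω] [Finite Ω]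
    [FaithfulSMul G Ω] {p : ℕ} [hp : Fact p.Prime] {D : Subgroup G} [D.Normal] [IsPretransitive D Ω]
    (hD : OneFix D Ω) (hlarge : Nat.card Ω < (D.index + 1) ^ 2) (hn : 1 < Nat.card Ω) {a : Ω}
    {P Y : Subgroup G} (hP : IsPGroup p P) (hPD : P ≤ D) (hYH : Y ≤ stabilizer G a)
    (hYP : Y ≤ Subgroup.normalizer (P : Set G)) (hcov : Y ⊔ D = ⊤)
    (hPc : Nat.card P = p ^ (Nat.card D).factorization p) (horb : orbit P a = Set.univ) :
    Aff p D P a := by
  classical
  set G' := Y ⊔ P with hG'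
  have hG'N : G' ≤ Subgroup.normalizer (P : Set G) := sup_le hYP le_normalizer
  have htrP : ∀ δ : Ω, ∃ x ∈ P, x • a = δ := fun δ => by
    obtain ⟨⟨x, hx⟩, h⟩ := (show δ ∈ orbit P a by rw [horb]; trivial)
    exact ⟨x, hx, h⟩
  have htr' : IsPretransitive G' Ω := ⟨fun δ δ' => by
    obtain ⟨x, hx, rfl⟩ := htrP δ
    obtain ⟨x', hx', rfl⟩ := htrP δ'
    refine ⟨⟨x' * x⁻¹, mem_sup_right (P.mul_mem hx' (P.inv_mem hx))⟩, ?_⟩
    show (x' * x⁻¹) • x • a = x' • a
    rw [← mul_smul, inv_mul_cancel_right]⟩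
  set D' := D.subgroupOf G'
  have : Nonempty Ω := ⟨a⟩
  obtain ⟨htrD', hD'⟩ := counting (Δ := Ω) D' (fun g hg => hD.1 (g : G) hg)
  have hidx : D'.index = D.index := relIndex_eq_index (sup_eq_top_mono hcov le_sup_left)
  have hmax : ∀ X : Subgroup G', stabilizer G' a ≤ X → X = stabilizer G' a ∨ X = ⊤ := by
    intro X hX
    by_contra hcon
    push Not at hcon
    have h1 := sq_le_of_intermediate (D := D') hD' (lt_of_le_of_ne hX (Ne.symm hcon.1))
      (lt_top_iff_ne_top.2 hcon.2)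
    rw [hidx] at h1
    omega
  have hkey : ∀ N : Subgroup G, N ≤ P → G' ≤ Subgroup.normalizer (N : Set G) → N ≠ ⊥ →
      ∀ δ : Ω, ∃ x ∈ N, x • a = δ := by
    intro N hNP hnorm hne
    have hNG : N ≤ G' := hNP.trans le_sup_right
    set N' := N.subgroupOf G'
    have hN'n : N'.Normal := (normal_subgroupOf_iff_le_normalizer hNG).2 hnorm
    rcases hmax (stabilizer G' a ⊔ N') le_sup_left with h1 | h1
    · exfalso
      refine hne ((Subgroup.eq_bot_iff_forall _).2 fun x hx => eq_of_smul_eq_smul fun δ : Ω => ?_)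
      obtain ⟨g, rfl⟩ := exists_smul_eq G' a δ
      have h2 : g⁻¹ * ⟨x, hNG hx⟩ * g ∈ N' := by
        simpa using hN'n.conj_mem ⟨x, hNG hx⟩ hx g⁻¹
      have h3 : (g⁻¹ * ⟨x, hNG hx⟩ * g) • a = a := (h1.le (mem_sup_right h2) :)
      rw [mul_smul, mul_smul, inv_smul_eq_iff] at h3
      rw [one_smul]
      exact h3
    · intro δ
      obtain ⟨g, rfl⟩ := exists_smul_eq G' a δ
      have hg : g ∈ ((N' ⊔ stabilizer G' a : Subgroup G') : Set G') := by
        rw [sup_comm, h1]; exact mem_top g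
      rw [Subgroup.normal_mul] at hg
      obtain ⟨x, hx, y, hy, rfl⟩ := hg
      refine ⟨(x : G), hx, ?_⟩
      show (x : G) • a = ((x * y : G') : G) • a
      rw [Subgroup.coe_mul, mul_smul]
      exact congrArg ((x : G) • ·) (hy : y • a = a).symm
  have hPne : P ≠ ⊥ := by
    rintro rfl
    obtain ⟨δ, δ', hne⟩ := (Finite.one_lt_card_iff_nontrivial.1 hn).exists_pair_ne
    obtain ⟨x, hx, rfl⟩ := htrP δ
    obtain ⟨x', hx', rfl⟩ := htrP δ'
    rw [mem_bot] at hx hx'
    exact hne (by rw [hx, hx'])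
  set Z := P ⊓ centralizer (P : Set G) with hZ
  have hZne : Z ≠ ⊥ := by
    have : Nontrivial P := (nontrivial_iff_ne_bot P).2 hPne
    obtain ⟨⟨⟨x, hx⟩, hxc⟩, hne⟩ := @exists_ne _ hP.center_nontrivial (1 : center P)
    intro hb
    refine hne (Subtype.ext (Subtype.ext ((mem_bot (G := G)).1 (hb ▸ ⟨hx, ?_⟩))))
    exact Subgroup.mem_centralizer_iff.2 fun y hy => congrArg Subtype.val (mem_center_iff.1 hxc ⟨y, hy⟩)
  have hconjP : ∀ g ∈ G', ∀ x ∈ P, g * x * g⁻¹ ∈ P := fun g hg x hx =>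
    (Subgroup.mem_normalizer_iff.1 (hG'N hg) x).1 hx
  have hnormal : ∀ N : Subgroup G, (∀ g ∈ G', ∀ x ∈ N, g * x * g⁻¹ ∈ N) →
      G' ≤ Subgroup.normalizer (N : Set G) := by
    intro N hN g hg
    rw [Subgroup.mem_normalizer_iff]
    intro x
    refine ⟨hN g hg x, fun hx => ?_⟩
    have := hN g⁻¹ (G'.inv_mem hg) _ hx
    simpa [mul_assoc] using this
  have hZtr := hkey Z inf_le_left (hnormal Z fun g hg x hx => by
    refine ⟨hconjP g hg x hx.1, Subgroup.mem_centralizer_iff.2 fun y hy => ?_⟩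
    have h1 := Subgroup.mem_centralizer_iff.1 hx.2 (g⁻¹ * y * g) (by
      simpa using hconjP g⁻¹ (G'.inv_mem hg) y hy)
    calc y * (g * x * g⁻¹) = g * ((g⁻¹ * y * g) * x) * g⁻¹ := by group
      _ = g * x * g⁻¹ * y := by rw [h1]; group) hZne
  have hreg : ∀ x ∈ P, x • a = a → x = 1 := by
    intro x hx hxa
    refine eq_of_smul_eq_smul fun δ : Ω => ?_
    obtain ⟨w, hw, rfl⟩ := hZtr δ
    rw [one_smul, smul_smul, Subgroup.mem_centralizer_iff.1 hw.2 x hx, mul_smul, hxa]
  have hcard : Nat.card P = Nat.card Ω := by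
    refine Nat.card_eq_of_bijective (fun x : P => (x : G) • a) ⟨fun x y he => ?_, fun δ => ?_⟩
    · have h1 := hreg _ (P.mul_mem (P.inv_mem y.2) x.2) (by
        rw [mul_smul, inv_smul_eq_iff]; exact he)
      exact Subtype.ext (inv_mul_eq_one.1 h1).symm
    · obtain ⟨x, hx, h⟩ := htrP δ
      exact ⟨⟨x, hx⟩, h⟩
  have hPZ : P ≤ Z := by
    intro x hx
    obtain ⟨w, hw, hwx⟩ := hZtr (x • a)
    have h1 : x⁻¹ * w = 1 := hreg _ (P.mul_mem (P.inv_mem hx) hw.1) (by
      rw [mul_smul, inv_smul_eq_iff]; exact hwx)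
    rw [inv_mul_eq_one.1 h1]
    exact hw
  have hcomm : ∀ x ∈ P, ∀ y ∈ P, Commute x y := fun x hx y hy =>
    (Subgroup.mem_centralizer_iff.1 (hPZ hy).2 x hx)
  refine
    { prime := hp.out
      faith := inferInstance
      normal := inferInstance
      trans := inferInstance
      fix := hD
      le := hPD
      comm := hcomm
      elem := ?_
      reg := hreg
      card := hcard
      coprime := ?_
      cover := sup_eq_top_mono hcov (le_inf hYH hYP) }
  · intro x hx
    by_contra hxp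
    let N : Subgroup G :=
      { carrier := {y | ∃ w ∈ P, w ^ p = y}
        one_mem' := ⟨1, P.one_mem, one_pow p⟩
        mul_mem' := by
          rintro _ _ ⟨u, hu, rfl⟩ ⟨v, hv, rfl⟩
          exact ⟨u * v, P.mul_mem hu hv, (hcomm u hu v hv).mul_pow p⟩
        inv_mem' := by
          rintro _ ⟨u, hu, rfl⟩
          exact ⟨u⁻¹, P.inv_mem hu, inv_pow u p⟩ }
    have hNP : N ≤ P := by rintro _ ⟨u, hu, rfl⟩; exact P.pow_mem hu p
    have hNtr := hkey N hNP (hnormal N fun g hg y ⟨u, hu, he⟩ =>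
      ⟨g * u * g⁻¹, hconjP g hg u hu, by rw [conj_pow, he]⟩)
      (fun hb => hxp ((mem_bot (G := G)).1 (hb ▸ ⟨x, hx, rfl⟩)))
    have hsurj : Function.Surjective (fun w : P => w ^ p) := by
      rintro ⟨y, hy⟩
      obtain ⟨w, ⟨u, hu, rfl⟩, hwy⟩ := hNtr (y • a)
      refine ⟨⟨u, hu⟩, Subtype.ext ?_⟩
      rw [Subgroup.coe_pow]
      exact (inv_mul_eq_one.1 (hreg _ (P.mul_mem (P.inv_mem hy) (P.pow_mem hu p)) (by
        rw [mul_smul, inv_smul_eq_iff]; exact hwy))).symm
    obtain ⟨e, he⟩ := IsPGroup.iff_card.1 hP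
    have he0 : e ≠ 0 := by
      rintro rfl
      rw [pow_zero] at he
      omega
    obtain ⟨w, hw⟩ := exists_prime_orderOf_dvd_card' (G := P) p (by rw [he]; exact dvd_pow_self p he0)
    have h1 : w = 1 := (Finite.injective_iff_surjective.2 hsurj) (by
      show w ^ p = 1 ^ p
      rw [one_pow, ← hw, pow_orderOf_eq_one])
    rw [h1, orderOf_one] at hw
    exact hp.out.ne_one hw.symm
  · intro hd
    have hDn : Nat.card Ω * Nat.card (stabilizer G a ⊓ D : Subgroup G) = Nat.card D := by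
      rw [← index_stabilizer_of_transitive D a, ← card_mul_index (stabilizer D a), mul_comm]
      congr 1
      exact Nat.card_congr
        { toFun := fun x => ⟨⟨x.1, x.2.2⟩, x.2.1⟩
          invFun := fun x => ⟨x.1.1, x.2, x.1.2⟩
          left_inv := fun x => rfl
          right_inv := fun x => rfl }
    have hf := congrArg (fun k => k.factorization p) hDn
    simp only [Nat.factorization_mul Nat.card_pos.ne' Nat.card_pos.ne', Finsupp.add_apply] at hf
    have hpos := hp.out.factorization_pos_of_dvd Nat.card_pos.ne' hd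
    rw [hcard] at hPc
    have h2 := congrArg (fun k => k.factorization p) hPc
    simp only [hp.out.factorization_pow, Finsupp.single_eq_same] at h2
    omega

/-- The theorem on the index of the subgroup generated by the derangements. -/
theorem frobenius_or_small : ∃ N : ℕ, ∀ (G Ω : Type*) [Group G] [Finite G] [MulAction G Ω] [FaithfulSMul G Ω]
    [Fintype Ω], IsPretransitive G Ω → N ≤ Fintype.card Ω →
      (IsPreprimitive G Ω ∧ (IsPretransitive G Ω ∧ (∃ g : G, g ≠ 1 ∧ ∃ ω : Ω, g • ω = ω) ∧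
        ∀ g : G, g ≠ 1 → Nat.card (fixedBy Ω g) ≤ 1)) ∨
      ((Derange.derSubgroup G Ω).index + 1) ^ 2 ≤ Fintype.card Ω := by
  obtain ⟨N, hN⟩ := exists_bound
  refine ⟨max N 4, fun G Ω _ _ _ _ _ htr hn => ?_⟩
  rcases le_or_gt (((Derange.derSubgroup G Ω).index + 1) ^ 2) (Fintype.card Ω) with hs | hlarge
  · exact Or.inr hs
  left
  rw [← Nat.card_eq_fintype_card] at hn hlarge
  have hn4 : 4 ≤ Nat.card Ω := le_trans (le_max_right _ _) hn
  set D := Derange.derSubgroup G Ω
  have : Nonempty Ω := (Nat.card_pos_iff.1 (show 0 < Nat.card Ω by omega)).1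
  obtain ⟨a⟩ := id this
  obtain ⟨htrD, hD⟩ := counting (Δ := Ω) D fun g hg => Derange.exists_fixed_of_not_mem hg
  have hDtop : D ≠ ⊤ := fun e => by rw [e, index_top] at hlarge; omega
  have hprim : IsPreprimitive G Ω := by
    have : Nontrivial Ω := Finite.one_lt_card_iff_nontrivial.1 (by omega)
    rw [← isCoatom_stabilizer_iff_preprimitive G a]
    refine ⟨fun e => ?_, fun X hX => ?_⟩
    · obtain ⟨δ, hδ⟩ := exists_ne a
      obtain ⟨g, hg⟩ := exists_smul_eq G a δ
      have : g ∈ stabilizer G a := e ▸ mem_top g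
      exact hδ (hg.symm.trans this)
    · by_contra hne
      have := sq_le_of_intermediate hD hX (lt_top_iff_ne_top.2 hne)
      omega
  set p := (Nat.card Ω).minFac
  have hp : p.Prime := Nat.minFac_prime (by omega)
  have := Fact.mk hp
  have hpd : p ∣ Nat.card Ω := Nat.minFac_dvd _
  have hbound : ∀ q : ℕ, q.Prime → q ∣ Nat.card Ω →
      D.index + 1 ≤ q ^ (Nat.card Ω).factorization q := by
    intro q hq hqd
    have := Fact.mk hq
    obtain ⟨P, Y, -, -, hYH, hYP, hcov, -, horb⟩ := exists_chain_orbit (p := q) hD hDtop a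
    rw [← horb]
    refine index_lt_of_invariant hD hYH hcov _ ?_ (mem_orbit_self a) ?_
    · rintro y hy _ ⟨⟨x, hx⟩, rfl⟩
      refine ⟨⟨y * x * y⁻¹, (Subgroup.mem_normalizer_iff.1 (hYP hy) x).1 hx⟩, ?_⟩
      exact (Aff.smul_point (hYH hy)).symm
    · refine Set.exists_ne_of_one_lt_ncard ?_ a
      rw [horb]
      exact Nat.one_lt_pow (hq.factorization_pos_of_dvd Nat.card_pos.ne' hqd).ne' hq.one_lt
  have hpow : Nat.card Ω = p ^ (Nat.card Ω).factorization p := by
    by_contra hne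
    obtain ⟨r, hr⟩ := Nat.ordProj_dvd (Nat.card Ω) p
    have hr1 : r ≠ 1 := fun e => hne (by rw [e, mul_one] at hr; exact hr)
    obtain ⟨q, hq, hqr⟩ := Nat.exists_prime_and_dvd hr1
    have hqd : q ∣ Nat.card Ω := hr ▸ dvd_mul_of_dvd_right hqr _
    have hqp : q ≠ p := by
      intro e
      subst e
      have h1 := congrArg (fun k => k.factorization p) hr
      have hr0 : r ≠ 0 := fun e => by rw [e, mul_zero] at hr; omega
      simp only [Nat.factorization_mul (pow_ne_zero _ hp.ne_zero) hr0, Finsupp.add_apply,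
        hp.factorization_pow, Finsupp.single_eq_same] at h1
      have := hp.factorization_pos_of_dvd hr0 hqr
      omega
    have hdvd : p ^ (Nat.card Ω).factorization p * q ^ (Nat.card Ω).factorization q ∣ Nat.card Ω :=
      Nat.Coprime.mul_dvd_of_dvd_of_dvd ((Nat.coprime_primes hp hq).2 (Ne.symm hqp) |>.pow _ _)
        (Nat.ordProj_dvd _ _) (Nat.ordProj_dvd _ _)
    exact absurd (sq_le_of_dvd_two (hbound p hp hpd) (hbound q hq hqd)
      (Nat.le_of_dvd Nat.card_pos hdvd)) (by omega)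
  obtain ⟨P, Y, hP, hPD, hYH, hYP, hcov, hPc, horb⟩ := exists_chain_orbit (p := p) hD hDtop a
  rw [← hpow] at horb
  have horb' : orbit P a = Set.univ :=
    Set.eq_of_subset_of_ncard_le (Set.subset_univ _) (by rw [Set.ncard_univ, horb]) (Set.toFinite _)
  have A := exists_aff hD hlarge (by omega) hP hPD hYH hYP hcov hPc horb'
  have hfree : ∀ k ∈ stabilizer G a ⊓ D ⊓ Subgroup.normalizer (P : Set G),
      ∀ v ∈ P, v ≠ 1 → Commute k v → k = 1 := by
    intro k hk v hv hv1 hkv
    by_contra hk1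
    have := hN _ _ (le_trans (le_max_left _ _) hn) (A.small hk hk1 hv hv1 hkv)
    omega
  obtain ⟨g, hg, hgD⟩ := exists_not_mem (stabilizer_sup_eq_top (D := D) a) hDtop
  refine ⟨hprim, htr, ⟨g, fun e => hgD (e ▸ D.one_mem), a, hg⟩, fun w hw => ?_⟩
  rw [Finite.card_le_one_iff_subsingleton]
  refine ⟨fun x y => Subtype.ext (by_contra fun hne => hw ?_)⟩
  exact A.frobenius hfree hDtop (by omega) hlarge hne x.2 y.2

end CfsgLib.DerangeIndex
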