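import Cfsg.Agent.Lib.PermChar.Basic
import Cfsg.Agent.Lib.Char.Induced
import Cfsg.Agent.Lib.Char.Linear
import Mathlib.Algebra.Group.Conj

/-!
The rank of a transitive group with a regular abelian subgroup whose fusion is controlled by a
fixed-point-free group of automorphisms.
-/

set_option autoImplicit false

open MulAction CfsgLib.Char CfsgLib.PermChar
open scoped ComplexConjugate

namespace CfsgLib.DerangeIndex

theorem degree_eq_one {P : Type*} [Group P] [Fintype P] (hc : ∀ a b : P, a * b = b * a)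
    (l : Cfsg.IrrCharacter P) : l.1 1 = 1 := by
  classical
  have hle : Nat.card P = Fintype.card (Cfsg.IrrCharacter P) := by
    rw [← Nat.card_eq_fintype_card, card_irrCharacter]
    refine Nat.card_eq_of_bijective ConjClasses.mk ⟨fun a b hab => ?_, Quotient.mk''_surjective⟩
    obtain ⟨g, hg⟩ := isConj_iff.1 (ConjClasses.mk_eq_mk_iff_isConj.1 hab)
    rwa [hc g a, mul_inv_cancel_right] at hg
  have hd : ∀ m : Cfsg.IrrCharacter P, 1 ≤ degree m.1 ^ 2 := fun m =>
    Nat.one_le_pow _ _ (IsIrrCharacter.degree_pos m.2)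
  have hsum : ∑ m : Cfsg.IrrCharacter P, degree m.1 ^ 2 = ∑ _m : Cfsg.IrrCharacter P, 1 := by
    rw [← Finset.card_eq_sum_ones, Finset.card_univ, ← hle]
    exact sum_degree_sq
  have h1 := (Finset.sum_eq_sum_iff_of_le (fun m _ => hd m)).1 hsum.symm l (Finset.mem_univ l)
  rw [← IsCharacter.degree_cast (IsIrrCharacter.isCharacter l.2)]
  have h2 : degree l.1 = 1 := Nat.pow_left_injective two_ne_zero (by simp only [one_pow]; exact h1.symm)
  rw [h2, Nat.cast_one]

variable {D : Type*} [Group D] [Fintype D] {Ω : Type*} [MulAction D Ω] [Fintype Ω]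

open Classical in
theorem rank_of_TI [IsPretransitive D Ω] (a : Ω) (P K0 : Subgroup D)
    (hPc : ∀ x ∈ P, ∀ y ∈ P, Commute x y) (hPreg : ∀ x ∈ P, x • a = a → x = 1)
    (hPn : Nat.card P = Fintype.card Ω)
    (hTI : ∀ v ∈ P, v ≠ 1 → ∀ x : D, x⁻¹ * v * x ∈ P → ∃ q ∈ P, ∃ k ∈ K0, x = q * k)
    (hKn : K0 ≤ Subgroup.normalizer (P : Set D)) (hKs : K0 ≤ stabilizer D a)
    (hfree : ∀ k ∈ K0, ∀ v ∈ P, v ≠ 1 → Commute k v → k = 1) :
    Nat.card (orbitRel.Quotient (stabilizer D a) Ω) ≤ 2 ∨
      (Nat.card (orbitRel.Quotient (stabilizer D a) Ω) - 1) * Nat.card K0 + 1 = Fintype.card Ω := by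
  have : Nonempty Ω := ⟨a⟩
  set Λ := Cfsg.IrrCharacter P
  have hdeg : ∀ l : Λ, l.1 1 = 1 := degree_eq_one (fun x y => Subtype.ext (hPc x x.2 y y.2).eq)
  have hlin : ∀ l : Λ, ∃ f : P →* ℂˣ, l.1 = fun v => (f v : ℂ) := fun l =>
    (isIrrCharacter_degree_one_iff).1 ⟨l.2, hdeg l⟩
  -- conjugation
  have hconj : ∀ k : K0, ∀ v : P, (k : D)⁻¹ * (v : D) * k ∈ P := fun k v => by
    have h1 := (Subgroup.mem_normalizer_iff.1 (hKn (K0.inv_mem k.2)) (v : D)).1 v.2
    simpa using h1
  let cjM : K0 → (P →* P) := fun k =>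
    { toFun := fun v => ⟨(k : D)⁻¹ * (v : D) * k, hconj k v⟩
      map_one' := Subtype.ext (by simp)
      map_mul' := fun v w => Subtype.ext (by simp [mul_assoc]) }
  have hirr : ∀ (k : K0) (l : Λ), Cfsg.IsIrrCharacter P (fun v => l.1 (cjM k v)) := by
    intro k l
    obtain ⟨f, hf⟩ := hlin l
    rw [hf]
    exact isIrrCharacter_linear (f.comp (cjM k))
  let cj : K0 → Λ → Λ := fun k l => ⟨_, hirr k l⟩
  have hcj_mul : ∀ (k k' : K0) (l : Λ), cj k (cj k' l) = cj (k * k') l := by
    intro k k' l
    refine Subtype.ext (funext fun v => congrArg l.1 (Subtype.ext ?_))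
    show (k' : D)⁻¹ * ((k : D)⁻¹ * v * k) * k' = ((k * k' : K0) : D)⁻¹ * v * ((k * k' : K0) : D)
    push_cast
    group
  have hfix : ∀ (k : K0) (l : Λ), cj k l = l → l ≠ principalIrr → k = 1 := by
    intro k l hl hne
    by_contra hk
    obtain ⟨f, hf⟩ := hlin l
    refine hne (Subtype.ext (funext fun w => ?_))
    let d : P → P := fun v => cjM k v * v⁻¹
    have hinj : Function.Injective d := by
      intro v v' hvv
      have h1 : cjM k (v'⁻¹ * v) = v'⁻¹ * v := by
        rw [map_mul, map_inv]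
        have h2 : cjM k v = cjM k v' * v'⁻¹ * v := by simp only [d] at hvv; rw [← hvv]; simp
        rw [h2]; group
      have h3 : v'⁻¹ * v = 1 := by
        by_contra h4
        refine hk (Subtype.ext (hfree k k.2 _ (v'⁻¹ * v).2 (fun e => h4 (Subtype.ext e)) ?_))
        have h5 : (k : D)⁻¹ * ((v'⁻¹ * v : P) : D) * k = ((v'⁻¹ * v : P) : D) := congrArg Subtype.val h1
        show (k : D) * ((v'⁻¹ * v : P) : D) = ((v'⁻¹ * v : P) : D) * k
        conv_lhs => rw [← h5]
        group
      exact (inv_mul_eq_one.1 h3).symm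
    obtain ⟨v, hv⟩ := (Finite.injective_iff_surjective.1 hinj) w
    rw [← hv, principalIrr_apply]
    have h6 : l.1 (cjM k v) = l.1 v := congrFun (congrArg Subtype.val hl) v
    rw [hf] at h6 ⊢
    simp only at h6 ⊢
    rw [show d v = cjM k v * v⁻¹ from rfl, map_mul, map_inv, Units.ext h6, mul_inv_cancel, Units.val_one]
  have hcj1 : ∀ l : Λ, cj 1 l = l := fun l => Subtype.ext (funext fun v => congrArg l.1 (Subtype.ext (by
    show ((1 : K0) : D)⁻¹ * (v : D) * ((1 : K0) : D) = v
    simp)))
  have hcjinj : ∀ l : Λ, l ≠ principalIrr → Function.Injective fun k => cj k l := by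
    intro l hl k k' he
    have h1 : cj (k'⁻¹ * k) l = l := by
      have h2 := congrArg (cj k'⁻¹) he
      simp only [hcj_mul, inv_mul_cancel, hcj1] at h2
      exact h2
    exact (inv_mul_eq_one.1 (hfix _ l h1 hl)).symm
  -- restricted constituents
  have hres : ∀ χ : Cfsg.IrrCharacter D, Cfsg.IsCharacter P (fun v : P => χ.1 v) := fun χ =>
    IsCharacter.restrict (IsIrrCharacter.isCharacter χ.2) P
  choose c hc using fun (χ : Cfsg.IrrCharacter D) (l : Λ) =>
    IsCharacter.exists_nat_classInner (hres χ) l.2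
  have hsum1 : ∀ l : Λ, ∑ χ : Cfsg.IrrCharacter D, mult Ω χ.1 * c χ l = 1 := by
    intro l
    have hreg : Cfsg.classInner (fun v : P => piFun D Ω (v : D)) l.1 = 1 := by
      unfold Cfsg.classInner
      rw [Finset.sum_eq_single (1 : P)]
      · simp only [hdeg l, map_one, mul_one, OneMemClass.coe_one, piFun_one]
        rw [hPn, inv_mul_cancel₀]
        exact Nat.cast_ne_zero.2 Fintype.card_ne_zero
      · intro v _ hv
        have h0 : fixedBy Ω (v : D) = ∅ := by
          rw [Set.eq_empty_iff_forall_notMem]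
          intro δ hδ
          obtain ⟨⟨q, hq⟩, hqa⟩ : ∃ q : P, (q : D) • a = δ := by
            have hbij : Function.Bijective (fun q : P => (q : D) • a) := by
              rw [Fintype.bijective_iff_injective_and_card]
              refine ⟨fun q q' he => ?_, by rw [← Nat.card_eq_fintype_card, hPn]⟩
              have h1 := hPreg _ (P.mul_mem (P.inv_mem q'.2) q.2) (by
                rw [mul_smul, inv_smul_eq_iff]; exact he)
              exact Subtype.ext (inv_mul_eq_one.1 h1).symm
            exact hbij.2 δ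
          refine hv (Subtype.ext (hPreg _ v.2 (MulAction.injective q ?_)))
          have h2 : (v : D) • δ = δ := hδ
          rw [← hqa] at h2
          simp only at h2
          show q • (v : D) • a = q • a
          rw [smul_smul, (hPc q hq v v.2).eq, mul_smul]
          exact h2
        simp [piFun, h0]
      · simp
    rw [piFun_eq_sum] at hreg
    simp only [Finset.sum_apply, Pi.smul_apply, smul_eq_mul] at hreg
    rw [show (fun v : P => ∑ χ : Cfsg.IrrCharacter D, (mult Ω χ.1 : ℂ) * χ.1 (v : D)) =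
      ∑ χ : Cfsg.IrrCharacter D, (mult Ω χ.1 : ℂ) • fun v : P => χ.1 (v : D) from funext fun v => by
        simp [Finset.sum_apply]] at hreg
    rw [classInner_sum_left] at hreg
    simp only [classInner_smul_left, hc] at hreg
    exact_mod_cast hreg
  have hex : ∀ l : Λ, ∃ χ : Cfsg.IrrCharacter D, mult Ω χ.1 = 1 ∧ c χ l = 1 ∧
      ∀ χ', mult Ω χ'.1 ≠ 0 → c χ' l ≠ 0 → χ' = χ := by
    intro l
    obtain ⟨χ, -, hχ⟩ := Finset.exists_ne_zero_of_sum_ne_zero (by rw [hsum1 l]; exact one_ne_zero)
    have h1 := hsum1 l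
    rw [← Finset.add_sum_erase _ _ (Finset.mem_univ χ)] at h1
    have hpos := Nat.pos_of_ne_zero hχ
    have h2 : mult Ω χ.1 * c χ l = 1 := by omega
    refine ⟨χ, Nat.eq_one_of_mul_eq_one_right h2, Nat.eq_one_of_mul_eq_one_left h2, fun χ' hm hcc => ?_⟩
    by_contra hne
    have h3 := Finset.single_le_sum (f := fun ψ => mult Ω ψ.1 * c ψ l) (fun _ _ => Nat.zero_le _)
      (Finset.mem_erase.2 ⟨hne, Finset.mem_univ χ'⟩)
    have h4 : 0 < mult Ω χ'.1 * c χ' l := Nat.pos_of_ne_zero (mul_ne_zero hm hcc)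
    omega
  choose Ψ hΨm hΨc hΨu using hex
  have hΨsurj : ∀ χ : Cfsg.IrrCharacter D, mult Ω χ.1 ≠ 0 → ∃ l, Ψ l = χ := by
    intro χ hm
    by_contra hne
    push Not at hne
    refine IsIrrCharacter.apply_one_ne_zero χ.2 ?_
    have h1 := congrFun (IsCharacter.eq_sum_classInner (hres χ)) 1
    simp only [OneMemClass.coe_one, Finset.sum_apply, Pi.smul_apply, smul_eq_mul, hc] at h1
    rw [h1]
    refine Finset.sum_eq_zero fun l _ => ?_
    have h2 : c χ l = 0 := by_contra fun h3 => hne l (hΨu l χ hm h3).symm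
    simp [h2]
  have hprin : ∀ l : Λ, Ψ l = principalIrr ↔ l = principalIrr := by
    have hcp : ∀ l : Λ, c principalIrr l = if l = principalIrr then 1 else 0 := by
      intro l
      have h1 := hc principalIrr l
      rw [show (fun v : P => (principalIrr : Cfsg.IrrCharacter D).1 (v : D)) =
        (principalIrr : Λ).1 from funext fun v => by rw [principalIrr_apply, principalIrr_apply]] at h1
      rw [classInner_irrCharacter] at h1
      split_ifs with hl
      · subst hl; rw [if_pos rfl] at h1; exact_mod_cast h1.symm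
      · rw [if_neg (Ne.symm hl)] at h1; exact_mod_cast h1.symm
    intro l
    refine ⟨fun he => ?_, fun he => ?_⟩
    · have h1 := hΨc l
      rw [he, hcp] at h1
      by_contra hne
      rw [if_neg hne] at h1
      exact zero_ne_one h1
    · subst he
      refine (hΨu _ _ ?_ ?_).symm
      · rw [mult_principal]; exact one_ne_zero
      · rw [hcp, if_pos rfl]; exact one_ne_zero
  set Λ' : Finset Λ := Finset.univ.erase principalIrr
  have hrank : Nat.card (orbitRel.Quotient (stabilizer D a) Ω) = (Λ'.image Ψ).card + 1 := by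
    rw [← sum_mult_sq a]
    have hsq : ∀ χ : Cfsg.IrrCharacter D, mult Ω χ.1 * mult Ω χ.1 = if χ ∈ Finset.univ.image Ψ then 1 else 0 := by
      intro χ
      split_ifs with hmem
      · obtain ⟨l, -, rfl⟩ := Finset.mem_image.1 hmem
        rw [hΨm]
      · by_contra hne
        obtain ⟨l, rfl⟩ := hΨsurj χ (left_ne_zero_of_mul hne)
        exact hmem (Finset.mem_image_of_mem _ (Finset.mem_univ l))
    rw [Finset.sum_congr rfl fun χ _ => hsq χ, Finset.sum_boole, Nat.cast_id, Finset.filter_mem_eq_inter,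
      Finset.univ_inter, ← Finset.insert_erase (Finset.mem_univ (principalIrr : Λ)), Finset.image_insert,
      Finset.card_insert_of_notMem]
    rw [(hprin _).2 rfl, Finset.mem_image]
    rintro ⟨l, hl, he⟩
    exact Finset.ne_of_mem_erase hl ((hprin l).1 he)
  rcases le_or_gt (Λ'.image Ψ).card 1 with h1 | h2
  · left; omega
  right
  -- invariance and separation of the orbits
  have hΨinv : ∀ (k : K0) (l : Λ), Ψ (cj k l) = Ψ l := by
    intro k l
    refine (hΨu (cj k l) _ (by rw [hΨm]; exact one_ne_zero) ?_).symm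
    have h3 : Cfsg.classInner (fun v : P => (Ψ l).1 v) (cj k l).1 = 1 := by
      have h4 := hc (Ψ l) l
      rw [hΨc, Nat.cast_one] at h4
      rw [← h4]
      unfold Cfsg.classInner
      congr 1
      refine Fintype.sum_bijective (cjM k) ⟨fun v w he => ?_, ?_⟩ _ _ fun v => ?_
      · exact Subtype.ext (mul_left_cancel (mul_right_cancel (congrArg Subtype.val he)))
      · exact (Finite.injective_iff_surjective.1 fun v w he =>
          Subtype.ext (mul_left_cancel (mul_right_cancel (congrArg Subtype.val he))))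
      · show (Ψ l).1 (v : D) * conj (l.1 (cjM k v)) = (Ψ l).1 ((k : D)⁻¹ * v * k) * conj (l.1 (cjM k v))
        rw [show (Ψ l).1 ((k : D)⁻¹ * v * k) = (Ψ l).1 (v : D) by
          simpa using IsIrrCharacter.isClassFunction (Ψ l).2 (v : D) (k : D)⁻¹]
    intro h0
    rw [hc, h0, Nat.cast_zero] at h3
    exact zero_ne_one h3
  -- induced differences
  have hIndP : ∀ f : P → ℂ, f 1 = 0 → ∀ v : P,
      Cfsg.indFun P f (v : D) = ∑ k : K0, f (cjM k v) := by
    intro f hf v
    by_cases hv : v = 1
    · subst hv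
      rw [OneMemClass.coe_one, indFun_apply_one, hf, mul_zero]
      exact (Finset.sum_eq_zero fun k _ => by rw [map_one, hf]).symm
    rw [indFun_apply]
    set S := (Finset.univ : Finset (P × K0)).image (fun qk => (qk.1 : D) * (qk.2 : D))
    rw [← Finset.sum_subset (Finset.subset_univ S) fun x _ hx => ?_]
    · rw [Finset.sum_image ?_, Fintype.sum_prod_type]
      · have hterm : ∀ (q : P) (k : K0),
            Cfsg.extendByZero P f (((q : D) * k)⁻¹ * (v : D) * ((q : D) * k)) = f (cjM k v) := by
          intro q k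
          have h3 : ((q : D) * k)⁻¹ * (v : D) * ((q : D) * k) = ((cjM k v : P) : D) := by
            show _ = (k : D)⁻¹ * (v : D) * k
            calc ((q : D) * k)⁻¹ * (v : D) * ((q : D) * k) = (k : D)⁻¹ * ((q : D)⁻¹ * ((v : D) * q)) * k := by group
              _ = _ := by rw [(hPc v v.2 q q.2).eq, inv_mul_cancel_left]
          rw [h3, extendByZero_coe]
        simp only [hterm, Finset.sum_const, Finset.card_univ, nsmul_eq_mul, Nat.card_eq_fintype_card]
        rw [inv_mul_cancel_left₀]
        exact Nat.cast_ne_zero.2 Fintype.card_ne_zero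
      · rintro ⟨q, k⟩ - ⟨q', k'⟩ - he
        simp only at he
        have h3 : (q'⁻¹ * q : P) = 1 := Subtype.ext (hPreg _ (q'⁻¹ * q).2 (by
          have h4 : ((q' : D))⁻¹ * q = (k' : D) * (k : D)⁻¹ := by
            rw [eq_mul_inv_iff_mul_eq, mul_assoc, he, inv_mul_cancel_left]
          show ((q' : D)⁻¹ * q) • a = a
          rw [h4]
          exact (stabilizer D a).mul_mem (hKs k'.2) ((stabilizer D a).inv_mem (hKs k.2))))
        have h5 : q = q' := (inv_mul_eq_one.1 h3).symm
        subst h5
        exact Prod.ext rfl (Subtype.ext (mul_left_cancel he))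
    · refine extendByZero_of_notMem P f fun hmem => hx ?_
      obtain ⟨q, hq, k, hk, rfl⟩ := hTI v v.2 (fun e => hv (Subtype.ext e)) x hmem
      exact Finset.mem_image.2 ⟨(⟨q, hq⟩, ⟨k, hk⟩), Finset.mem_univ _, rfl⟩
  let df : Λ → Λ → (P → ℂ) := fun l m => l.1 - m.1
  have hdf1 : ∀ l m, df l m 1 = 0 := fun l m => by simp [df, hdeg]
  have hdel : ∀ l m : Λ, Cfsg.classInner l.1 m.1 = if l = m then 1 else 0 := fun l m =>
    classInner_irrCharacter l m
  have hinner : ∀ l m l' m' : Λ, Cfsg.classInner (Cfsg.indFun P (df l' m')) (Cfsg.indFun P (df l m)) =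
      ∑ k : K0, Cfsg.classInner (df l' m') ((cj k l).1 - (cj k m).1) := by
    intro l m l' m'
    rw [classInner_indFun P _ _ (isClassFunction_indFun P _), ← classInner_sum_right]
    congr 1
    funext v
    rw [hIndP _ (hdf1 l m) v, Finset.sum_apply]
    rfl
  have hnorm : ∀ l m : Λ, l ≠ principalIrr → m ≠ principalIrr → (∀ k, cj k l ≠ m) →
      Cfsg.classInner (Cfsg.indFun P (df l m)) (Cfsg.indFun P (df l m)) = 2 := by
    intro l m hl hm hne
    have hne' : ∀ k, cj k m ≠ l := fun k he => hne k⁻¹ (by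
      rw [← he, hcj_mul, inv_mul_cancel, hcj1])
    rw [hinner, Finset.sum_eq_single (1 : K0)]
    · simp only [df, hcj1, classInner_sub_left, classInner_sub_right, hdel, if_true]
      rw [if_neg (fun e => hne 1 (by rw [hcj1, e])), if_neg (fun e => hne 1 (by rw [hcj1, e]))]
      norm_num
    · intro k _ hk
      simp only [df, classInner_sub_left, classInner_sub_right, hdel]
      rw [if_neg (fun e => hk (hfix k l e.symm hl)), if_neg (fun e => hne k e.symm),
        if_neg (fun e => hne' k e.symm), if_neg (fun e => hk (hfix k m e.symm hm))]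
      norm_num
    · simp
  have hψ : ∀ l m : Λ, Ψ l ≠ Ψ m → l ≠ principalIrr → m ≠ principalIrr →
      Cfsg.indFun P (df l m) = (Ψ l).1 - (Ψ m).1 := by
    intro l m hne hl hm
    have hdisj : ∀ k, cj k l ≠ m := fun k he => hne (by rw [← he, hΨinv])
    have hval : ∀ ψ : Cfsg.IrrCharacter D, mult Ω ψ.1 ≠ 0 → Cfsg.classInner (Cfsg.indFun P (df l m)) ψ.1 =
        (if ψ = Ψ l then 1 else 0) - (if ψ = Ψ m then 1 else 0) := by
      intro ψ hψm
      rw [classInner_indFun P _ _ (IsIrrCharacter.isClassFunction ψ.2)]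
      have hcv : ∀ n : Λ, Cfsg.classInner n.1 (fun v : P => ψ.1 v) = if ψ = Ψ n then 1 else 0 := by
        intro n
        rw [← classInner_conj_symm, hc ψ n, map_natCast]
        split_ifs with he
        · rw [he, hΨc, Nat.cast_one]
        · rw [Nat.cast_eq_zero]
          exact by_contra fun h3 => he (hΨu n ψ hψm h3)
      simp only [df, classInner_sub_left, hcv]
    set e := Cfsg.indFun P (df l m) - ((Ψ l).1 - (Ψ m).1) with he
    have hv1 := hval (Ψ l) (by rw [hΨm]; exact one_ne_zero)
    have hv2 := hval (Ψ m) (by rw [hΨm]; exact one_ne_zero)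
    rw [if_pos rfl, if_neg hne] at hv1
    rw [if_neg (Ne.symm hne), if_pos rfl] at hv2
    have hw1 := classInner_conj_symm (Cfsg.indFun P (df l m)) (Ψ l).1
    have hw2 := classInner_conj_symm (Cfsg.indFun P (df l m)) (Ψ m).1
    rw [hv1] at hw1
    rw [hv2] at hw2
    have h00 : Cfsg.classInner e e = 0 := by
      simp only [he, classInner_sub_left, classInner_sub_right, classInner_irrCharacter, if_true,
        if_neg hne, if_neg (Ne.symm hne), hnorm l m hl hm hdisj, hv1, hv2]
      rw [← hw1, ← hw2]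
      simp only [map_sub, map_one, map_zero]
      norm_num
    refine sub_eq_zero.1 (show e = 0 from ?_)
    unfold Cfsg.classInner at h00
    rw [mul_eq_zero, inv_eq_zero, Nat.cast_eq_zero] at h00
    have h3 := h00.resolve_left Nat.card_pos.ne'
    simp only [Complex.mul_conj] at h3
    rw [← Complex.ofReal_sum, Complex.ofReal_eq_zero,
      Finset.sum_eq_zero_iff_of_nonneg fun g _ => Complex.normSq_nonneg _] at h3
    funext g
    exact Complex.normSq_eq_zero.1 (h3 g (Finset.mem_univ g))
  have hfib : ∀ l ∈ Λ', ∀ m ∈ Λ', Ψ l = Ψ m → ∃ k, cj k l = m := by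
    intro l hl m hm he
    by_contra hne
    push Not at hne
    obtain ⟨χ, hχ, hχne⟩ := Finset.exists_mem_ne h2 (Ψ l)
    obtain ⟨n, hn, rfl⟩ := Finset.mem_image.1 hχ
    have hl' := Finset.ne_of_mem_erase hl
    have hm' := Finset.ne_of_mem_erase hm
    have hn' := Finset.ne_of_mem_erase hn
    have hA := hψ l n (Ne.symm hχne) hl' hn'
    have hB := hψ m n (he ▸ Ne.symm hχne) hm' hn'
    rw [← he, ← hA] at hB
    have hlm : Cfsg.indFun P (df l m) = 0 := by
      have h3 : df l m = df l n - df m n := by simp [df]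
      rw [h3, indFun_sub, hB, sub_self]
    have h4 := hnorm l m hl' hm' hne
    rw [hlm, classInner_zero_left] at h4
    norm_num at h4
  have hcount : Λ'.card = (Λ'.image Ψ).card * Nat.card K0 := by
    rw [Finset.card_eq_sum_card_image Ψ Λ', Finset.sum_const_nat fun χ hχ => ?_]
    obtain ⟨l, hl, rfl⟩ := Finset.mem_image.1 hχ
    rw [Nat.card_eq_fintype_card, ← Finset.card_univ, ← Finset.card_image_of_injective Finset.univ
      (hcjinj l (Finset.ne_of_mem_erase hl))]
    congr 1
    ext m
    simp only [Finset.mem_filter, Finset.mem_image, Finset.mem_univ, true_and]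
    constructor
    · rintro ⟨hm, he⟩; exact hfib l hl m hm he.symm
    · rintro ⟨k, rfl⟩
      refine ⟨Finset.mem_erase.2 ⟨fun e => Finset.ne_of_mem_erase hl ?_, Finset.mem_univ _⟩, hΨinv k l⟩
      have h5 := (hprin _).2 e
      rw [hΨinv] at h5
      exact (hprin l).1 h5
  have hΛ : Fintype.card Λ = Nat.card P := by
    rw [← Nat.card_eq_fintype_card, card_irrCharacter]
    refine (Nat.card_eq_of_bijective ConjClasses.mk ⟨fun x y hxy => ?_, Quotient.mk''_surjective⟩).symm
    obtain ⟨g, hg⟩ := isConj_iff.1 (ConjClasses.mk_eq_mk_iff_isConj.1 hxy)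
    rwa [Subtype.ext (hPc g g.2 x x.2).eq (a1 := g * x) (a2 := x * g), mul_inv_cancel_right] at hg
  rw [hrank, Nat.add_sub_cancel, ← hcount, Finset.card_erase_add_one (Finset.mem_univ _),
    Finset.card_univ, hΛ, hPn]

end CfsgLib.DerangeIndex
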