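import Cfsg.Agent.Lib.DerangeIndex.Cover
import Cfsg.Agent.Lib.DerangeIndex.Lin.Main
import Cfsg.Agent.Lib.DerangeIndex.CharTI
import Mathlib.GroupTheory.Transfer
import Mathlib.GroupTheory.GroupAction.Blocks

/-!
The case of a point stabilizer normalising a regular elementary abelian subgroup of `D`.
-/

set_option autoImplicit false

open MulAction Subgroup

namespace CfsgLib.DerangeIndex

variable {G : Type*} [Group G] [Finite G] {Ω : Type*} [MulAction G Ω] [Finite Ω]

/-- The standing hypotheses of the affine case. -/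
structure Aff (p : ℕ) (D P : Subgroup G) (a : Ω) : Prop where
  prime : p.Prime
  faith : FaithfulSMul G Ω
  normal : D.Normal
  trans : IsPretransitive D Ω
  fix : OneFix D Ω
  le : P ≤ D
  comm : ∀ x ∈ P, ∀ y ∈ P, Commute x y
  elem : ∀ x ∈ P, x ^ p = 1
  reg : ∀ x ∈ P, x • a = a → x = 1
  card : Nat.card P = Nat.card Ω
  coprime : ¬ p ∣ Nat.card (stabilizer G a ⊓ D : Subgroup G)
  cover : (stabilizer G a ⊓ Subgroup.normalizer (P : Set G)) ⊔ D = ⊤

namespace Aff

variable {p : ℕ} {D P : Subgroup G} {a : Ω} (A : Aff p D P a)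
include A

theorem bij : Function.Bijective (fun x : P => (x : G) • a) := by
  have := Fintype.ofFinite Ω
  have := Fintype.ofFinite P
  rw [Fintype.bijective_iff_injective_and_card]
  refine ⟨fun x y he => ?_, by rw [← Nat.card_eq_fintype_card, ← Nat.card_eq_fintype_card, A.card]⟩
  have h1 := A.reg _ (P.mul_mem (P.inv_mem y.2) x.2) (by
    rw [mul_smul, inv_smul_eq_iff]; exact he)
  exact Subtype.ext (inv_mul_eq_one.1 h1).symm

theorem exists_point (δ : Ω) : ∃ x ∈ P, x • a = δ := by
  obtain ⟨⟨x, hx⟩, h⟩ := A.bij.2 δ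
  exact ⟨x, hx, h⟩

omit [Finite G] [Finite Ω] A in
theorem smul_point {y x : G} (hy : y • a = a) : y • x • a = (y * x * y⁻¹) • a := by
  rw [mul_smul, mul_smul, show y⁻¹ • a = a from inv_smul_eq_iff.2 hy.symm]

theorem free_outside {y : G} (hy : y • a = a) (hyD : y ∉ D) {x : G} (hx : x ∈ P)
    (hcm : Commute y x) : x = 1 := by
  refine A.reg x hx ?_
  refine A.fix.2 y hyD (x • a) a ?_ hy
  rw [smul_smul, hcm.eq, mul_smul, hy]

theorem faithful_conj {y : G} (hy : y • a = a) (hcm : ∀ x ∈ P, Commute y x) : y = 1 := by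
  have := A.faith
  refine eq_of_smul_eq_smul fun δ : Ω => ?_
  obtain ⟨x, hx, rfl⟩ := A.exists_point δ
  rw [one_smul, smul_smul, (hcm x hx).eq, mul_smul, hy]

/-- The elements of `D` normalising `P`. -/
theorem exists_decomp_normalizer {d : G} (hd : d ∈ D) (hdP : d ∈ Subgroup.normalizer (P : Set G)) :
    ∃ q ∈ P, ∃ k ∈ stabilizer G a ⊓ D ⊓ Subgroup.normalizer (P : Set G), d = q * k := by
  obtain ⟨q, hq, hqa⟩ := A.exists_point (d • a)
  refine ⟨q, hq, q⁻¹ * d, ⟨⟨?_, D.mul_mem (D.inv_mem (A.le hq)) hd⟩,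
    (Subgroup.normalizer _).mul_mem ((Subgroup.normalizer _).inv_mem (le_normalizer hq)) hdP⟩, (mul_inv_cancel_left q d).symm⟩
  show (q⁻¹ * d) • a = a
  rw [mul_smul, ← hqa, inv_smul_smul]

theorem index_eq :
    (D.subgroupOf (stabilizer G a ⊓ Subgroup.normalizer (P : Set G))).index = D.index := by
  have := A.normal
  exact relIndex_eq_index A.cover

/-- The case of an element of `D` centralizing a non-identity element of `P`. -/
theorem small {k v : G} (hk : k ∈ stabilizer G a ⊓ D ⊓ Subgroup.normalizer (P : Set G)) (hk1 : k ≠ 1)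
    (hv : v ∈ P) (hv1 : v ≠ 1) (hkv : Commute k v) : Small (Nat.card Ω) D.index := by
  set Y := stabilizer G a ⊓ Subgroup.normalizer (P : Set G)
  have hconj : ∀ (y : Y) (x : P), (y : G) * (x : G) * (y : G)⁻¹ ∈ P := fun y x =>
    (Subgroup.mem_normalizer_iff.1 y.2.2 _).1 x.2
  let _ : CommGroup P := { (inferInstance : Group P) with
    mul_comm := fun x y => Subtype.ext (A.comm x x.2 y y.2).eq }
  let _ : DistribMulAction Y (Additive P) :=
    { smul := fun y x => Additive.ofMul ⟨(y : G) * (x.toMul : G) * (y : G)⁻¹, hconj y x.toMul⟩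
      one_smul := fun x => Additive.toMul.injective (Subtype.ext (by
        show ((1 : Y) : G) * (x.toMul : G) * ((1 : Y) : G)⁻¹ = (x.toMul : G)
        simp))
      mul_smul := fun y y' x => Additive.toMul.injective (Subtype.ext (by
        show ((y * y' : Y) : G) * (x.toMul : G) * ((y * y' : Y) : G)⁻¹ =
          (y : G) * ((y' : G) * (x.toMul : G) * (y' : G)⁻¹) * (y : G)⁻¹
        push_cast
        group))
      smul_zero := fun y => Additive.toMul.injective (Subtype.ext (by
        show (y : G) * ((1 : P) : G) * (y : G)⁻¹ = ((1 : P) : G)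
        simp))
      smul_add := fun y x x' => Additive.toMul.injective (Subtype.ext (by
        show (y : G) * ((x.toMul * x'.toMul : P) : G) * (y : G)⁻¹ =
          ((y : G) * (x.toMul : G) * (y : G)⁻¹) * ((y : G) * (x'.toMul : G) * (y : G)⁻¹)
        push_cast
        group)) }
  have hact : ∀ (y : Y) (x : Additive P), y • x = x ↔ Commute (y : G) (x.toMul : G) := by
    intro y x
    rw [← Additive.toMul.injective.eq_iff, Subtype.ext_iff]
    show (y : G) * (x.toMul : G) * (y : G)⁻¹ = (x.toMul : G) ↔ _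
    rw [mul_inv_eq_iff_eq_mul]
    rfl
  have := A.normal
  have h : Setup (Additive P) p (D.subgroupOf Y) :=
    { normal := A.normal.subgroupOf Y
      prime := A.prime
      exp := fun x => Additive.toMul.injective (Subtype.ext (by
        show ((x.toMul ^ p : P) : G) = 1
        rw [Subgroup.coe_pow]
        exact A.elem _ x.toMul.2))
      coprime := fun hd => A.coprime (hd.trans (by
        rw [← card_map_of_injective (K := D.subgroupOf Y) Y.subtype_injective]
        exact Subgroup.card_dvd_of_le (by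
          rintro _ ⟨y, hy, rfl⟩
          exact ⟨y.2.1, hy⟩)))
      faithful := fun y hy => Subtype.ext (A.faithful_conj y.2.1 fun x hx =>
        (hact y (Additive.ofMul ⟨x, hx⟩)).1 (hy _))
      free := fun y hy x hx => Additive.toMul.injective (Subtype.ext
        (A.free_outside y.2.1 hy x.toMul.2 ((hact y x).1 hx))) }
  have : Nontrivial (Additive P) :=
    ⟨Additive.ofMul ⟨v, hv⟩, 0, fun e => hv1 (congrArg (fun w : Additive P => (w.toMul : G)) e)⟩
  have h1 := h.small (k := (⟨k, hk.1.1, hk.2⟩ : Y)) hk.1.2 (fun e => hk1 (congrArg Subtype.val e))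
    (v := Additive.ofMul ⟨v, hv⟩)
    (fun e => hv1 (congrArg (fun w : Additive P => (w.toMul : G)) e)) ((hact _ _).2 hkv)
  rw [A.index_eq, show Nat.card (Additive P) = Nat.card Ω from
    (Nat.card_congr Additive.toMul).trans A.card] at h1
  exact h1

variable (hfree : ∀ k ∈ stabilizer G a ⊓ D ⊓ Subgroup.normalizer (P : Set G),
    ∀ v ∈ P, v ≠ 1 → Commute k v → k = 1)
include hfree

/-- In the fixed-point-free case `P` is the centralizer of each of its non-identity elements. -/
theorem mem_of_commute {v d : G} (hv : v ∈ P) (hv1 : v ≠ 1) (hd : d ∈ D) (hdv : Commute d v) :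
    d ∈ P := by
  classical
  set C := D ⊓ centralizer {v}
  have hPC : P ≤ C := le_inf A.le fun x hx =>
    Subgroup.mem_centralizer_singleton_iff.2 (A.comm x hx v hv).eq
  suffices hCP : C ≤ P from hCP ⟨hd, Subgroup.mem_centralizer_singleton_iff.2 hdv.eq⟩
  have := Fact.mk A.prime
  set P' := P.subgroupOf C
  have hP'p : IsPGroup p P' := fun x => ⟨1, by
    rw [pow_one]
    exact Subtype.ext (Subtype.ext (by
      rw [Subgroup.coe_pow, Subgroup.coe_pow]
      exact A.elem _ x.2))⟩
  obtain ⟨Q, hQ⟩ := hP'p.exists_le_sylow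
  have hcardP : Nat.card P' = Nat.card P := Nat.card_congr (subgroupOfEquivOfLe hPC).toEquiv
  have hDn : Nat.card Ω * Nat.card (stabilizer G a ⊓ D : Subgroup G) = Nat.card D := by
    have := A.trans
    rw [← index_stabilizer_of_transitive D a, ← card_mul_index (stabilizer D a), mul_comm]
    congr 1
    exact Nat.card_congr
      { toFun := fun x => ⟨⟨x.1, x.2.2⟩, x.2.1⟩
        invFun := fun x => ⟨x.1.1, x.2, x.1.2⟩
        left_inv := fun x => rfl
        right_inv := fun x => rfl }
  have hQP : (Q : Subgroup C) = P' := by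
    refine (eq_of_le_of_card_ge hQ ?_).symm
    rw [hcardP, A.card]
    obtain ⟨e, he⟩ := IsPGroup.iff_card.1 Q.isPGroup'
    have hdvd : Nat.card Q ∣ Nat.card D :=
      (Subgroup.card_subgroup_dvd_card _).trans (Subgroup.card_dvd_of_le inf_le_left)
    rw [← hDn, he] at hdvd
    have hco : Nat.Coprime (p ^ e) (Nat.card (stabilizer G a ⊓ D : Subgroup G)) :=
      ((A.prime.coprime_iff_not_dvd).2 A.coprime).pow_left e
    rw [he]
    exact Nat.le_of_dvd (by
      have : Nonempty Ω := ⟨a⟩
      exact Nat.card_pos) (hco.dvd_of_dvd_mul_right hdvd)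
  have hNC : Subgroup.normalizer ((Q : Subgroup C) : Set C) ≤ centralizer ((Q : Subgroup C) : Set C) := by
    rintro ⟨d, hdC⟩ hd'
    rw [hQP] at hd' ⊢
    have hdN : d ∈ Subgroup.normalizer (P : Set G) := by
      rw [Subgroup.mem_normalizer_iff]
      intro x
      constructor
      · intro hx
        have h1 : (⟨d, hdC⟩ * (⟨x, hPC hx⟩ : C) * ⟨d, hdC⟩⁻¹) ∈ P' :=
          (Subgroup.mem_normalizer_iff.1 hd' _).1 hx
        exact h1
      · intro hx
        have hxC : x ∈ C := by
          have h1 := C.mul_mem (C.mul_mem (C.inv_mem hdC) (hPC hx)) hdC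
          simpa [mul_assoc] using h1
        exact (Subgroup.mem_normalizer_iff.1 hd' ⟨x, hxC⟩).2 hx
    obtain ⟨q, hq, k, hk, hqk⟩ := A.exists_decomp_normalizer hdC.1 hdN
    have hk1 : k = 1 := hfree k hk v hv hv1 (by
      have h2 : Commute d v := Subgroup.mem_centralizer_singleton_iff.1 hdC.2
      have h3 : k = q⁻¹ * d := by rw [hqk, inv_mul_cancel_left]
      rw [h3]
      exact ((A.comm q hq v hv).inv_left).mul_left h2)
    rw [hk1, mul_one] at hqk
    subst hqk
    rw [Subgroup.mem_centralizer_iff]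
    exact fun w hw => Subtype.ext (A.comm _ hw d hq).eq
  set W := (MonoidHom.transferSylow Q hNC).ker
  have hcompl : IsComplement' W (Q : Subgroup C) := MonoidHom.ker_transferSylow_isComplement' Q hNC
  have hWp : ¬ p ∣ Nat.card W := MonoidHom.not_dvd_card_ker_transferSylow Q hNC
  have hWfix : ∀ (w : C), w ∈ W → (w : G) • a = a := by
    have hCa : W ≤ stabilizer C a := by
      rw [← relIndex_eq_one]
      have htr : IsPretransitive C Ω := ⟨fun x y => by
        obtain ⟨u, hu, rfl⟩ := A.exists_point x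
        obtain ⟨u', hu', rfl⟩ := A.exists_point y
        refine ⟨⟨u' * u⁻¹, hPC (P.mul_mem hu' (P.inv_mem hu))⟩, ?_⟩
        show (u' * u⁻¹) • u • a = u' • a
        rw [← mul_smul, inv_mul_cancel_right]⟩
      have h1 : (stabilizer C a).relIndex W ∣ Nat.card W := Subgroup.index_dvd_card _
      have h2 : (stabilizer C a).relIndex W ∣ Nat.card P := by
        have hst : stabilizer W a = (stabilizer C a).subgroupOf W := by
          ext w; rfl
        rw [A.card, relIndex, ← hst, index_stabilizer]
        exact (IsBlock.orbit_of_normal (N := W) a).ncard_dvd_card ⟨a, mem_orbit_self a⟩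
      obtain ⟨e, he⟩ := IsPGroup.iff_card.1 (show IsPGroup p P from fun x => ⟨1, by
        rw [pow_one]; exact Subtype.ext (A.elem x x.2)⟩)
      rw [he] at h2
      obtain ⟨j, -, hj⟩ := (Nat.dvd_prime_pow A.prime).1 h2
      rcases Nat.eq_zero_or_pos j with h0 | h0
      · rw [hj, h0, pow_zero]
      · exact absurd ((dvd_pow_self p h0.ne').trans (hj ▸ h1)) hWp
    exact fun w hw => hCa hw
  have hW : W = ⊥ := by
    rw [Subgroup.eq_bot_iff_forall]
    intro w hw
    have := A.faith
    refine Subtype.ext (eq_of_smul_eq_smul fun δ : Ω => ?_)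
    obtain ⟨u, hu, rfl⟩ := A.exists_point δ
    rw [OneMemClass.coe_one, one_smul]
    have h1 := hWfix _ ((inferInstance : W.Normal).conj_mem w hw (⟨u, hPC hu⟩⁻¹ : C))
    simp only [inv_inv, Subgroup.coe_mul, Subgroup.coe_inv, mul_smul, inv_smul_eq_iff] at h1
    exact h1
  rw [hW, isComplement'_bot_left] at hcompl
  intro x hx
  have h1 : (⟨x, hx⟩ : C) ∈ P' := by rw [← hQP, hcompl]; exact mem_top _
  exact h1

/-- `P` is a TI subgroup of `D`. -/
theorem mem_normalizer_of_conj {v x : G} (hv : v ∈ P) (hv1 : v ≠ 1) (hx : x ∈ D)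
    (hxv : x⁻¹ * v * x ∈ P) : x ∈ Subgroup.normalizer (P : Set G) := by
  have h1 : ∀ w ∈ P, x⁻¹ * w * x ∈ P := fun w hw => by
    refine A.mem_of_commute hfree hxv (fun e => hv1 ?_)
      (D.mul_mem (D.mul_mem (D.inv_mem hx) (A.le hw)) hx) ?_
    · have h2 : v = x * (x⁻¹ * v * x) * x⁻¹ := by group
      rw [h2, e]; group
    · simpa using (A.comm w hw v hv).map (MulAut.conj x⁻¹)
  have h3 : P.map (MulAut.conj x⁻¹).toMonoidHom = P := by
    refine eq_of_le_of_card_ge ?_ (le_of_eq (card_map_of_injective (MulAut.conj x⁻¹).injective).symm)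
    rintro _ ⟨w, hw, rfl⟩
    simpa using h1 w hw
  rw [Subgroup.mem_normalizer_iff]
  intro w
  constructor
  · intro hw
    rw [← h3] at hw
    obtain ⟨w', hw', he⟩ := hw
    have h4 : x * w * x⁻¹ = w' := by rw [← he]; simp [mul_assoc]
    rw [h4]; exact hw'
  · intro hw
    have h4 := h1 _ hw
    simpa [mul_assoc] using h4

end Aff

end CfsgLib.DerangeIndex
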