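import Mathlib.Analysis.SpecificLimits.Normed
import Mathlib.Data.Nat.Log

/-!
Arithmetic for the index bound of the subgroup generated by the derangements.
-/

set_option autoImplicit false

namespace CfsgLib.DerangeIndex

/-- The bound used for the index: either the exact bound or one of cube-root size up to a power of
the logarithm. -/
def Small (n m : ℕ) : Prop :=
  (m + 1) ^ 2 ≤ n ∨ ∃ w : ℕ, m ≤ (Nat.log 2 n) ^ 8 * w ∧ w ^ 3 ≤ n

theorem exists_log_bound : ∃ N : ℕ, ∀ n, N ≤ n → 64 * (Nat.log 2 n) ^ 48 ≤ n := by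
  have h := tendsto_pow_const_div_const_pow_of_one_lt 48 (show (1 : ℝ) < 2 by norm_num)
  have h2 := (h.eventually_le_const (show (0 : ℝ) < 1 / 64 by norm_num))
  obtain ⟨L0, hL0⟩ := Filter.eventually_atTop.1 h2
  refine ⟨2 ^ L0, fun n hn => ?_⟩
  have hn0 : n ≠ 0 := (lt_of_lt_of_le (Nat.two_pow_pos L0) hn).ne'
  have hL : L0 ≤ Nat.log 2 n := Nat.le_log_of_pow_le Nat.one_lt_two hn
  have h3 := hL0 _ hL
  rw [div_le_iff₀ (by positivity)] at h3
  have h4 : ((64 * (Nat.log 2 n) ^ 48 : ℕ) : ℝ) ≤ ((2 ^ Nat.log 2 n : ℕ) : ℝ) := by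
    push_cast
    linarith
  exact le_trans (by exact_mod_cast h4) (Nat.pow_log_le_self 2 hn0)

theorem exists_bound : ∃ N : ℕ, ∀ n m, N ≤ n → Small n m → (m + 1) ^ 2 ≤ n := by
  obtain ⟨N, hN⟩ := exists_log_bound
  refine ⟨max N 4, fun n m hn h => ?_⟩
  rcases h with h | ⟨w, hm, hw⟩
  · exact h
  by_contra hlt
  have hn4 : 4 ≤ n := le_trans (le_max_right _ _) hn
  have hm1 : 1 ≤ m := by
    by_contra h0
    have : m = 0 := by omega
    subst this
    omega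
  have hL := hN n (le_trans (le_max_left _ _) hn)
  set L := Nat.log 2 n
  have h2 : m + 1 ≤ 2 * (L ^ 8 * w) := by omega
  have h3 : ((m + 1) ^ 2) ^ 3 ≤ n ^ 3 :=
    calc ((m + 1) ^ 2) ^ 3 ≤ ((2 * (L ^ 8 * w)) ^ 2) ^ 3 := by gcongr
      _ = (64 * L ^ 48) * (w ^ 3) ^ 2 := by ring
      _ ≤ n * n ^ 2 := by gcongr
      _ = n ^ 3 := by ring
  exact hlt (Nat.pow_le_pow_iff_left (by norm_num : 3 ≠ 0) |>.1 h3)

theorem sq_le_of_dvd_two {n m a b : ℕ} (ha : m + 1 ≤ a) (hb : m + 1 ≤ b) (h : a * b ≤ n) :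
    (m + 1) ^ 2 ≤ n := by
  rw [sq]; exact le_trans (Nat.mul_le_mul ha hb) h

end CfsgLib.DerangeIndex
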