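import Cfsg.Agent.Lib.DerangeIndex.Cover
import Mathlib.GroupTheory.Sylow
import Mathlib.GroupTheory.Nilpotent
import Mathlib.Algebra.Group.Subgroup.Pointwise
import Mathlib.Data.Nat.Factorization.Basic

/-!
A Sylow subgroup of `D` normalised by a subgroup of a point stabilizer covering `G/D`.
-/

set_option autoImplicit false

open MulAction Subgroup

namespace CfsgLib.DerangeIndex

variable {G : Type*} [Group G] [Finite G] {p : ℕ} [hp : Fact p.Prime]

theorem card_le_of_isPGroup {P K : Subgroup G} (hP : IsPGroup p P) (hPK : P ≤ K) :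
    Nat.card P ≤ p ^ (Nat.card K).factorization p := by
  obtain ⟨k, hk⟩ := IsPGroup.iff_card.1 hP
  rw [hk]
  refine Nat.pow_le_pow_right hp.out.pos ?_
  rw [← Nat.Prime.pow_dvd_iff_le_factorization hp.out Nat.card_pos.ne', ← hk]
  exact Subgroup.card_dvd_of_le hPK

/-- Frattini argument relative to the normal subgroup `D`. -/
theorem frattini {D M : Subgroup G} [D.Normal] (hM : M ⊔ D = ⊤) {P : Subgroup G}
    (hP : IsPGroup p P) (hPM : P ≤ M ⊓ D) :
    ∃ P1 : Subgroup G, P ≤ P1 ∧ P1 ≤ M ⊓ D ∧ IsPGroup p P1 ∧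
      Nat.card P1 = p ^ (Nat.card (M ⊓ D : Subgroup G)).factorization p ∧
      (M ⊓ Subgroup.normalizer (P1 : Set G)) ⊔ D = ⊤ := by
  set N : Subgroup M := D.subgroupOf M with hN
  have hP' : IsPGroup p (P.comap (M.subtype.comp N.subtype)) :=
    hP.comap_of_injective _ (M.subtype_injective.comp N.subtype_injective)
  obtain ⟨S0, hS0⟩ := hP'.exists_le_sylow
  have hfr := Sylow.normalizer_sup_eq_top S0
  set SM : Subgroup M := (S0 : Subgroup N).map N.subtype
  refine ⟨SM.map M.subtype, ?_, ?_, ?_, ?_, ?_⟩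
  · intro x hx
    exact ⟨⟨x, (hPM hx).1⟩, ⟨⟨⟨x, (hPM hx).1⟩, (hPM hx).2⟩, hS0 hx, rfl⟩, rfl⟩
  · rintro _ ⟨x, ⟨⟨y, hy⟩, -, rfl⟩, rfl⟩
    exact ⟨y.2, hy⟩
  · exact (S0.isPGroup'.map _).map _
  · rw [card_map_of_injective M.subtype_injective, card_map_of_injective N.subtype_injective,
      S0.card_eq_multiplicity]
    congr 2
    exact congrArg Nat.factorization (Nat.card_congr (α := ↥N) (β := ↥(M ⊓ D : Subgroup G))
      { toFun := fun x => ⟨((x : M) : G), x.1.2, x.2⟩
        invFun := fun x => ⟨⟨x.1, x.2.1⟩, x.2.2⟩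
        left_inv := fun x => rfl
        right_inv := fun x => rfl })
  · rw [eq_top_iff, ← hM]
    refine sup_le ?_ le_sup_right
    intro x hx
    have h1 : M.subtype ⟨x, hx⟩ ∈ (Subgroup.normalizer (SM : Set M) ⊔ N).map M.subtype :=
      mem_map_of_mem _ (by rw [hfr]; exact Subgroup.mem_top _)
    rw [Subgroup.map_sup] at h1
    refine SetLike.le_def.1 (sup_le_sup ?_ ?_) h1
    · exact le_inf (map_subtype_le _) (le_normalizer_map M.subtype)
    · rintro _ ⟨y, hy, rfl⟩
      exact hy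

variable {Δ : Type*} [MulAction G Δ] [Finite Δ]

theorem exists_chain [IsPretransitive G Δ] {D : Subgroup G} [D.Normal] [IsPretransitive D Δ]
    (hD : OneFix D Δ) (hDtop : D ≠ ⊤) (a : Δ) :
    ∃ P Y : Subgroup G, IsPGroup p P ∧ P ≤ D ∧ Y ≤ stabilizer G a ∧
      Y ≤ Subgroup.normalizer (P : Set G) ∧ Y ⊔ D = ⊤ ∧
      Nat.card P = p ^ (Nat.card D).factorization p ∧
      Nat.card (P ⊓ stabilizer G a : Subgroup G) =
        p ^ (Nat.card (stabilizer G a ⊓ D : Subgroup G)).factorization p := by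
  set H := stabilizer G a with hH
  obtain ⟨S, -, hSle, hSp, hScard, hScov⟩ :=
    frattini (p := p) (stabilizer_sup_eq_top (D := D) a) IsPGroup.of_bot (bot_le (a := H ⊓ D))
  let I : Set (Subgroup G) := {P | IsPGroup p P ∧ P ≤ D ∧ S ≤ P ∧
    ∃ Y : Subgroup G, Y ≤ H ∧ Y ≤ Subgroup.normalizer (P : Set G) ∧ Y ⊔ D = ⊤}
  obtain ⟨P, hPI, hmax⟩ := (Set.toFinite I).exists_maximal
    ⟨S, hSp, hSle.trans inf_le_right, le_rfl, _, inf_le_left, inf_le_right, hScov⟩
  obtain ⟨hP, hPD, hSP, Y, hYH, hYP, hYcov⟩ := hPI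
  refine ⟨P, Y, hP, hPD, hYH, hYP, hYcov, ?_, ?_⟩
  · by_contra hne
    obtain ⟨Q0, hQ0⟩ := (hP.comap_of_injective D.subtype D.subtype_injective).exists_le_sylow
    set Q : Subgroup G := (Q0 : Subgroup D).map D.subtype
    have hPQ : P ≤ Q := fun x hx => ⟨⟨x, hPD hx⟩, hQ0 hx, rfl⟩
    have hQD : Q ≤ D := map_subtype_le _
    have hQp : IsPGroup p Q := Q0.isPGroup'.map _
    have hQc : Nat.card Q = p ^ (Nat.card D).factorization p := by
      rw [card_map_of_injective D.subtype_injective, Q0.card_eq_multiplicity]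
    have hlt : P.subgroupOf Q < ⊤ := by
      rw [lt_top_iff_ne_top, ne_eq, subgroupOf_eq_top]
      exact fun h => hne (by rw [le_antisymm hPQ h, hQc])
    have : Group.IsNilpotent Q := hQp.isNilpotent
    obtain ⟨⟨x, hxQ⟩, hxN, hxP⟩ :=
      SetLike.exists_of_lt (Group.normalizerCondition_of_isNilpotent (G := Q) _ hlt)
    rw [← subgroupOf_normalizer_eq hPQ] at hxN
    set M := Subgroup.normalizer (P : Set G)
    have hMcov : M ⊔ D = ⊤ := sup_eq_top_mono hYcov hYP
    have hxM : x ∈ M := hxN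
    obtain ⟨P1, hle, hP1le, hP1p, -, hP1cov⟩ := frattini (p := p) hMcov
      (P := P ⊔ zpowers x) (hQp.to_le (sup_le hPQ (zpowers_le.2 hxQ)))
      (le_inf (sup_le le_normalizer (zpowers_le.2 hxM)) (sup_le hPD (zpowers_le.2 (hQD hxQ))))
    have : Nonempty Δ := ⟨a⟩
    obtain ⟨ω, hω⟩ := exists_covering hD hP1cov
    obtain ⟨y, hy, hyD⟩ := exists_not_mem hYcov hDtop
    obtain ⟨z, hz, hzD⟩ := exists_not_mem hω hDtop
    obtain ⟨⟨g, hg⟩, hgω⟩ :=
      mem_orbit_of_fixed hD (hYP hy) hyD hz.1.1 hzD (hYH hy) (hz.2 : z • ω = ω)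
    obtain ⟨y', hy', d, hd, hyd⟩ := exists_mul_of_sup_eq_top hYcov g⁻¹
    have hdM : d ∈ M := by
      rw [show d = y'⁻¹ * g⁻¹ by rw [hyd, inv_mul_cancel_left]]
      exact M.mul_mem (M.inv_mem (hYP hy')) (M.inv_mem hg)
    have hωd : d • ω = a := by
      have h1 : g • a = ω := hgω
      have h2 : y' • a = a := hYH hy'
      rw [show d = y'⁻¹ * g⁻¹ by rw [hyd, inv_mul_cancel_left], mul_smul,
        inv_smul_eq_iff.2 h1.symm, inv_smul_eq_iff.2 h2.symm]
    set φ := (MulAut.conj d).toMonoidHom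
    set Z := (M ⊓ Subgroup.normalizer (P1 : Set G)) ⊓ stabilizer G ω
    have hsurj : Function.Surjective φ := (MulAut.conj d).surjective
    have hmapD : D.map φ = D := by
      refine le_antisymm ?_ fun x hx => ?_
      · rintro _ ⟨x, hx, rfl⟩
        exact ‹D.Normal›.conj_mem x hx d
      · refine ⟨d⁻¹ * x * d, by simpa using ‹D.Normal›.conj_mem x hx d⁻¹, ?_⟩
        simp [φ, mul_assoc]
    have hPle : P ≤ P1.map φ := fun x hx => by
      refine ⟨d⁻¹ * x * d, hle (mem_sup_left ?_), ?_⟩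
      · exact (Subgroup.mem_normalizer_iff.1 hdM (d⁻¹ * x * d)).2 (by simpa [mul_assoc] using hx)
      · simp [φ, mul_assoc]
    have hmem : P1.map φ ∈ I := by
      refine ⟨hP1p.map _, ?_, hSP.trans hPle, Z.map φ, ?_, ?_, ?_⟩
      · exact (Subgroup.map_mono (hP1le.trans inf_le_right)).trans hmapD.le
      · rintro _ ⟨x, hx, rfl⟩
        show (d * x * d⁻¹) • a = a
        rw [mul_smul, mul_smul, inv_smul_eq_iff.2 hωd.symm, (hx.2 : x • ω = ω), hωd]
      · exact (Subgroup.map_mono (inf_le_left.trans inf_le_right)).trans (le_normalizer_map φ)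
      · have h1 := congrArg (Subgroup.map φ) hω
        rwa [Subgroup.map_sup, hmapD, Subgroup.map_top_of_surjective φ hsurj] at h1
    have heq := hmax hmem hPle
    have hcard : Nat.card (P1.map φ) = Nat.card P1 := card_map_of_injective (MulAut.conj d).injective
    have hlt2 : P < P1 := lt_of_le_of_ne (le_sup_left.trans hle) fun h =>
      hxP (mem_subgroupOf.2 (h.symm ▸ hle (mem_sup_right (mem_zpowers x))))
    have h3 := Subgroup.card_le_of_le heq
    have h4 : Nat.card P < Nat.card P1 := by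
      by_contra hge
      exact hlt2.ne (eq_of_le_of_card_ge hlt2.le (not_lt.1 hge))
    omega
  · refine le_antisymm (card_le_of_isPGroup (hP.to_le inf_le_left)
      (le_inf inf_le_right (inf_le_left.trans hPD))) ?_
    rw [← hScard]
    exact Subgroup.card_le_of_le (le_inf hSP (hSle.trans inf_le_left))

/-- The orbit of that Sylow subgroup is invariant and has the size of the `p`-part of the degree. -/
theorem exists_chain_orbit [IsPretransitive G Δ] {D : Subgroup G} [D.Normal] [IsPretransitive D Δ]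
    (hD : OneFix D Δ) (hDtop : D ≠ ⊤) (a : Δ) :
    ∃ P Y : Subgroup G, IsPGroup p P ∧ P ≤ D ∧ Y ≤ stabilizer G a ∧
      Y ≤ Subgroup.normalizer (P : Set G) ∧ Y ⊔ D = ⊤ ∧
      Nat.card P = p ^ (Nat.card D).factorization p ∧
      (orbit P a).ncard = p ^ (Nat.card Δ).factorization p := by
  obtain ⟨P, Y, hP, hPD, hYH, hYP, hcov, hPc, hPa⟩ := exists_chain (p := p) hD hDtop a
  refine ⟨P, Y, hP, hPD, hYH, hYP, hcov, hPc, ?_⟩
  have : Nonempty Δ := ⟨a⟩
  have h1 : (orbit P a).ncard * Nat.card (P ⊓ stabilizer G a : Subgroup G) = Nat.card P := by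
    rw [← index_stabilizer, ← card_mul_index (stabilizer P a), mul_comm]
    congr 1
    exact Nat.card_congr
      { toFun := fun x => ⟨⟨x.1, x.2.1⟩, x.2.2⟩
        invFun := fun x => ⟨x.1.1, x.1.2, x.2⟩
        left_inv := fun x => rfl
        right_inv := fun x => rfl }
  have h2 : Nat.card Δ * Nat.card (stabilizer G a ⊓ D : Subgroup G) = Nat.card D := by
    rw [← index_stabilizer_of_transitive D a, ← card_mul_index (stabilizer D a), mul_comm]
    congr 1
    exact Nat.card_congr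
      { toFun := fun x => ⟨⟨x.1, x.2.2⟩, x.2.1⟩
        invFun := fun x => ⟨x.1.1, x.2, x.1.2⟩
        left_inv := fun x => rfl
        right_inv := fun x => rfl }
  rw [hPa, hPc, ← h2, Nat.factorization_mul Nat.card_pos.ne' Nat.card_pos.ne', Finsupp.add_apply,
    pow_add] at h1
  exact Nat.eq_of_mul_eq_mul_right (pow_pos hp.out.pos _) h1

end CfsgLib.DerangeIndex
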