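import Mathlib.GroupTheory.GroupAction.Quotient
import Mathlib.GroupTheory.GroupAction.FixedPoints
import Mathlib.GroupTheory.GroupAction.Primitive
import Mathlib.GroupTheory.Index

/-!
A transitive action in which every element outside a normal subgroup `D` fixes a point: counting,
the bound from an invariant set, the bound from a block, and the covering lemma.
-/

set_option autoImplicit false

open MulAction Subgroup

namespace CfsgLib.DerangeIndex

variable {G : Type*} [Group G] {Δ : Type*} [MulAction G Δ]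

/-- Every element outside `D` fixes exactly one point. -/
def OneFix (D : Subgroup G) (Δ : Type*) [MulAction G Δ] : Prop :=
  (∀ g : G, g ∉ D → ∃ δ : Δ, g • δ = δ) ∧
    ∀ g : G, g ∉ D → ∀ a b : Δ, g • a = a → g • b = b → a = b

section Counting

variable [Finite G] [Finite Δ]

open Classical in
theorem counting [IsPretransitive G Δ] [Nonempty Δ] (D : Subgroup G)
    (hfix : ∀ g : G, g ∉ D → ∃ δ : Δ, g • δ = δ) :
    IsPretransitive D Δ ∧ OneFix D Δ := by
  have := Fintype.ofFinite G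
  have := Fintype.ofFinite Δ
  have hburn : ∀ (H : Subgroup G), ∑ g ∈ Finset.univ.filter (· ∈ H), Nat.card (fixedBy Δ g) =
      Nat.card (orbitRel.Quotient H Δ) * Nat.card H := by
    intro H
    rw [Finset.sum_subtype (Finset.univ.filter (· ∈ H)) (p := (· ∈ H)) (fun x => by simp)
      (fun g => Nat.card (fixedBy Δ g))]
    simp only [Nat.card_eq_fintype_card]
    exact sum_card_fixedBy_eq_card_orbits_mul_card_group H Δ
  have hone : ∀ (H : Subgroup G), IsPretransitive H Δ → Nat.card (orbitRel.Quotient H Δ) = 1 := by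
    intro H hH
    rw [Nat.card_eq_one_iff_unique]
    exact ⟨(pretransitive_iff_subsingleton_quotient H Δ).1 hH,
      ⟨Quotient.mk'' (Classical.arbitrary Δ)⟩⟩
  have hGtop : IsPretransitive (⊤ : Subgroup G) Δ := ⟨fun x y => by
    obtain ⟨g, hg⟩ := exists_smul_eq G x y
    exact ⟨⟨g, Subgroup.mem_top g⟩, hg⟩⟩
  have htot := hburn ⊤
  rw [hone ⊤ hGtop, one_mul, Nat.card_congr (Subgroup.topEquiv (G := G)).toEquiv,
    show Finset.univ.filter (· ∈ (⊤ : Subgroup G)) = Finset.univ from by ext; simp,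
    ← Finset.sum_filter_add_sum_filter_not Finset.univ (· ∈ D), hburn D] at htot
  have hcard : Nat.card G = Nat.card D + (Finset.univ.filter (· ∉ D)).card := by
    rw [Nat.card_eq_fintype_card, Nat.card_eq_fintype_card, Fintype.card_subtype]
    exact (Finset.card_filter_add_card_filter_not (s := (Finset.univ : Finset G)) (· ∈ D)).symm
  have hge : ∀ g ∈ Finset.univ.filter (· ∉ D), 1 ≤ Nat.card (fixedBy Δ g) := by
    intro g hg
    obtain ⟨δ, hδ⟩ := hfix g (Finset.mem_filter.1 hg).2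
    have : Nonempty (fixedBy Δ g) := ⟨⟨δ, hδ⟩⟩
    exact Nat.card_pos
  have hpos : 1 ≤ Nat.card (orbitRel.Quotient D Δ) := by
    have : Nonempty (orbitRel.Quotient D Δ) := ⟨Quotient.mk'' (Classical.arbitrary Δ)⟩
    exact Nat.card_pos
  have hle : (Finset.univ.filter (· ∉ D)).card ≤
      ∑ g ∈ Finset.univ.filter (· ∉ D), Nat.card (fixedBy Δ g) := by
    rw [Finset.card_eq_sum_ones]
    exact Finset.sum_le_sum hge
  have hDpos : 1 ≤ Nat.card D := Nat.card_pos
  have hk1 : Nat.card (orbitRel.Quotient D Δ) * Nat.card D ≤ 1 * Nat.card D := by omega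
  have hk : Nat.card (orbitRel.Quotient D Δ) = 1 :=
    le_antisymm (Nat.le_of_mul_le_mul_right hk1 hDpos) hpos
  refine ⟨(pretransitive_iff_subsingleton_quotient D Δ).2
    (Finite.card_le_one_iff_subsingleton.1 hk.le), hfix, fun g hg a b ha hb => ?_⟩
  rw [hk, one_mul] at htot
  have heq : ∑ g ∈ Finset.univ.filter (· ∉ D), Nat.card (fixedBy Δ g) =
      ∑ _g ∈ Finset.univ.filter (· ∉ D), 1 := by
    rw [← Finset.card_eq_sum_ones]
    omega
  have h1 := ((Finset.sum_eq_sum_iff_of_le hge).1 heq.symm g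
    (Finset.mem_filter.2 ⟨Finset.mem_univ g, hg⟩)).symm
  rw [Nat.card_eq_one_iff_unique] at h1
  exact congrArg Subtype.val (@Subsingleton.elim _ h1.1 (⟨a, ha⟩ : fixedBy Δ g) ⟨b, hb⟩)

end Counting

theorem stabilizer_sup_eq_top {D : Subgroup G} [IsPretransitive D Δ] (a : Δ) :
    stabilizer G a ⊔ D = ⊤ := by
  rw [eq_top_iff]
  intro g _
  obtain ⟨⟨d, hd⟩, h⟩ := exists_smul_eq D (g • a) a
  have h' : d * g ∈ stabilizer G a := by rw [mem_stabilizer_iff, mul_smul]; exact h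
  have := Subgroup.mul_mem (stabilizer G a ⊔ D) (mem_sup_right (D.inv_mem hd)) (mem_sup_left h')
  rwa [inv_mul_cancel_left] at this

theorem relIndex_eq_index {D Y : Subgroup G} [D.Normal] (h : Y ⊔ D = ⊤) :
    D.relIndex Y = D.index := by
  rw [← relIndex_sup_right (K := D) (H := Y), h, relIndex_top_right]

theorem exists_mul_of_sup_eq_top {D Y : Subgroup G} [D.Normal] (h : Y ⊔ D = ⊤) (g : G) :
    ∃ y ∈ Y, ∃ d ∈ D, g = y * d := by
  have hg : g ∈ ((Y ⊔ D : Subgroup G) : Set G) := by rw [h]; exact Subgroup.mem_top g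
  rw [mul_normal] at hg
  obtain ⟨y, hy, d, hd, rfl⟩ := hg
  exact ⟨y, hy, d, hd, rfl⟩

theorem sup_eq_top_mono {D Y Y' : Subgroup G} (h : Y ⊔ D = ⊤) (hle : Y ≤ Y') : Y' ⊔ D = ⊤ :=
  top_le_iff.1 (h ▸ sup_le_sup_right hle D)

theorem exists_not_mem {D Y : Subgroup G} (h : Y ⊔ D = ⊤) (hD : D ≠ ⊤) : ∃ y ∈ Y, y ∉ D := by
  by_contra hc
  push Not at hc
  exact hD (by rwa [sup_eq_right.2 hc] at h)

variable [Finite G] [Finite Δ]

/-- A subgroup of a point stabilizer covering `G/D` and an invariant set containing the point. -/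
theorem index_lt_of_invariant {D : Subgroup G} [D.Normal] (hD : OneFix D Δ) {a : Δ}
    {Y : Subgroup G} (hY : Y ≤ stabilizer G a) (hcov : Y ⊔ D = ⊤) (S : Set Δ)
    (hinv : ∀ y ∈ Y, ∀ s ∈ S, y • s ∈ S) (ha : a ∈ S) (hS : ∃ s ∈ S, s ≠ a) :
    D.index + 1 ≤ S.ncard := by
  obtain ⟨σ, hσS, hσa⟩ := hS
  have hle : stabilizer Y σ ≤ D.subgroupOf Y := by
    intro y hy
    rw [mem_subgroupOf]
    by_contra hyD
    exact hσa (hD.2 _ hyD σ a hy (hY y.2))
  have h1 : D.index ≤ (orbit Y σ).ncard := by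
    rw [← relIndex_eq_index hcov, ← index_stabilizer]
    exact Nat.le_of_dvd (Nat.pos_of_ne_zero Subgroup.index_ne_zero_of_finite)
      (Subgroup.index_dvd_of_le hle)
  have h2 : orbit Y σ ⊆ S \ {a} := by
    rintro _ ⟨⟨y, hy⟩, rfl⟩
    refine ⟨hinv y hy σ hσS, fun h => hσa ?_⟩
    have hya : y • a = a := hY hy
    exact MulAction.injective y (h.trans hya.symm)
  have h3 := Set.ncard_le_ncard h2 (Set.toFinite _)
  rw [Set.ncard_sdiff_singleton_of_mem ha] at h3
  have h4 : 0 < S.ncard := (Set.ncard_pos (Set.toFinite _)).2 ⟨a, ha⟩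
  omega

/-- The bound when the stabilizer of a point is not maximal. -/
theorem sq_le_of_intermediate [IsPretransitive G Δ] {D : Subgroup G} [D.Normal]
    (hD : OneFix D Δ) [IsPretransitive D Δ] {a : Δ} {X : Subgroup G}
    (hX1 : stabilizer G a < X) (hX2 : X < ⊤) : (D.index + 1) ^ 2 ≤ Nat.card Δ := by
  have hmul := relIndex_mul_index hX1.le
  rw [index_stabilizer_of_transitive G a] at hmul
  rw [← hmul, sq]
  refine Nat.mul_le_mul ?_ ?_
  · have hst : stabilizer X a = (stabilizer G a).subgroupOf X := by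
      ext x; rfl
    rw [relIndex, ← hst, index_stabilizer]
    refine index_lt_of_invariant hD le_rfl (stabilizer_sup_eq_top a) _ ?_ (mem_orbit_self a) ?_
    · rintro y hy _ ⟨x, rfl⟩
      exact ⟨⟨y, hX1.le hy⟩ * x, mul_smul _ _ _⟩
    · obtain ⟨x, hx, hxa⟩ := SetLike.exists_of_lt hX1
      exact ⟨x • a, ⟨⟨x, hx⟩, rfl⟩, hxa⟩
  · have hfix : ∀ g : G, g ∉ D → ∃ δ : G ⧸ X, g • δ = δ := by
      intro g hg
      obtain ⟨δ, hδ⟩ := hD.1 g hg
      obtain ⟨w, rfl⟩ := exists_smul_eq G a δ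
      refine ⟨((w : G) : G ⧸ X), ?_⟩
      rw [Quotient.smul_coe, smul_eq_mul, QuotientGroup.eq]
      refine hX1.le ?_
      rw [mem_stabilizer_iff, mul_smul, inv_smul_eq_iff.2]
      rw [mul_smul, hδ]  
    obtain ⟨-, hD'⟩ := counting D hfix
    have hcov : X ⊔ D = ⊤ := sup_eq_top_mono (stabilizer_sup_eq_top a) hX1.le
    have h := index_lt_of_invariant (Δ := G ⧸ X) hD' (a := ((1 : G) : G ⧸ X))
      (Y := X) (fun x hx => by
        rw [mem_stabilizer_iff, Quotient.smul_coe, smul_eq_mul, mul_one, QuotientGroup.eq, mul_one]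
        exact X.inv_mem hx) hcov Set.univ (fun _ _ _ _ => Set.mem_univ _) (Set.mem_univ _) ?_
    · rwa [Set.ncard_univ] at h
    · obtain ⟨g, -, hg⟩ := SetLike.exists_of_lt hX2
      refine ⟨(g : G ⧸ X), Set.mem_univ _, fun h => hg ?_⟩
      rw [QuotientGroup.eq, mul_one] at h
      exact X.inv_mem_iff.1 h

section Covering

variable {D : Subgroup G} [D.Normal] {Y : Subgroup G}

/-- The elements of `Y` outside `D` with a fixed point in the orbit of `ω`. -/
def movers (D Y : Subgroup G) (ω : Δ) : Set Y :=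
  {y : Y | (y : G) ∉ D ∧ ∃ δ ∈ orbit Y ω, y • δ = δ}

open Classical in
theorem ncard_movers (hD : OneFix D Δ) (ω : Δ) :
    (movers D Y ω).ncard + ∑ δ ∈ (Set.toFinite (orbit Y ω)).toFinset,
      Nat.card (D.subgroupOf Y ⊓ stabilizer Y δ : Subgroup Y) = Nat.card Y := by
  have := Fintype.ofFinite Y
  set O := (Set.toFinite (orbit Y ω)).toFinset with hO
  set s : Δ → Finset Y := fun δ => Finset.univ.filter (fun y : Y => y • δ = δ ∧ (y : G) ∉ D)
  have hdis : (O : Set Δ).PairwiseDisjoint s := by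
    intro δ _ δ' _ hne
    refine Finset.disjoint_left.2 fun y hy hy' => hne ?_
    rw [Finset.mem_filter] at hy hy'
    exact hD.2 _ hy.2.2 δ δ' hy.2.1 hy'.2.1
  have hset : movers D Y ω = ↑(O.biUnion s) := by
    ext y
    simp only [movers, Set.mem_ofPred_eq, Finset.coe_biUnion, Set.mem_iUnion, Finset.mem_coe, hO,
      Set.Finite.mem_toFinset, s, Finset.mem_filter, Finset.mem_univ, true_and]
    exact ⟨fun ⟨h1, δ, h2, h3⟩ => ⟨δ, h2, h3, h1⟩, fun ⟨δ, h2, h3, h1⟩ => ⟨h1, δ, h2, h3⟩⟩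
  rw [hset, Set.ncard_coe_finset, Finset.card_biUnion hdis, ← Finset.sum_add_distrib]
  have hstab : ∀ δ, (s δ).card + Nat.card (D.subgroupOf Y ⊓ stabilizer Y δ : Subgroup Y) =
      Nat.card (stabilizer Y δ) := by
    intro δ
    rw [Nat.card_eq_fintype_card, Nat.card_eq_fintype_card, Fintype.card_subtype,
      Fintype.card_subtype, ← Finset.card_filter_add_card_filter_not
        (s := Finset.univ.filter (fun y : Y => y ∈ stabilizer Y δ)) (fun y : Y => (y : G) ∉ D),
      Finset.filter_filter, Finset.filter_filter]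
    congr 2 <;> ext y <;>
      simp [s, mem_subgroupOf, mem_stabilizer_iff, and_comm, Subgroup.mem_inf]
  rw [Finset.sum_congr rfl (g := fun _ => Nat.card (stabilizer Y ω))]
  · rw [Finset.sum_const, smul_eq_mul, hO, ← Set.ncard_eq_toFinset_card,
      ← index_stabilizer, mul_comm, card_mul_index]
  · intro δ hδ
    rw [hstab]
    obtain ⟨g, rfl⟩ := (Set.Finite.mem_toFinset _).1 hδ
    rw [stabilizer_smul_eq_stabilizer_map_conj]
    exact (Nat.card_congr ((stabilizer Y ω).equivMapOfInjective _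
      (MulAut.conj g).injective).toEquiv).symm

theorem two_mul_movers (hD : OneFix D Δ) {y0 : G} (hy0 : y0 ∈ Y) (hy0D : y0 ∉ D) {ω : Δ}
    (hω : y0 • ω = ω) : Nat.card Y ≤ 2 * (movers D Y ω).ncard := by
  have h := ncard_movers hD (Y := Y) ω
  set O := (Set.toFinite (orbit Y ω)).toFinset with hO
  have hstab : ∀ δ ∈ O, 2 * Nat.card (D.subgroupOf Y ⊓ stabilizer Y δ : Subgroup Y) ≤
      Nat.card (stabilizer Y δ) := by
    intro δ hδ
    obtain ⟨g, rfl⟩ := (Set.Finite.mem_toFinset _).1 hδ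
    set T := stabilizer Y (g • ω)
    have hmem : g * (⟨y0, hy0⟩ : Y) * g⁻¹ ∈ T := by
      rw [mem_stabilizer_iff, mul_smul, mul_smul, inv_smul_smul]
      exact congrArg (g • ·) (hω : (⟨y0, hy0⟩ : Y) • ω = ω)
    have h1 : 2 ≤ (D.subgroupOf Y).relIndex T := by
      refine Nat.one_lt_iff_ne_zero_and_ne_one.2 ⟨Subgroup.index_ne_zero_of_finite, fun h' => ?_⟩
      have h3 : (g : G) * y0 * (g : G)⁻¹ ∈ D := relIndex_eq_one.1 h' hmem
      exact hy0D (by simpa [mul_assoc] using ‹D.Normal›.conj_mem _ h3 (g : G)⁻¹)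
    have h2 := relIndex_mul_relIndex ⊥ (D.subgroupOf Y ⊓ T) T bot_le inf_le_right
    rw [relIndex_bot_left, relIndex_bot_left, inf_relIndex_right] at h2
    rw [← h2, mul_comm]
    exact Nat.mul_le_mul_left _ h1
  have h3 : ∑ δ ∈ O, Nat.card (stabilizer Y δ) = Nat.card Y := by
    rw [Finset.sum_congr rfl (g := fun _ => Nat.card (stabilizer Y ω))]
    · rw [Finset.sum_const, smul_eq_mul, hO, ← Set.ncard_eq_toFinset_card,
        ← index_stabilizer, mul_comm, card_mul_index]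
    · intro δ hδ
      obtain ⟨g, rfl⟩ := (Set.Finite.mem_toFinset _).1 hδ
      rw [stabilizer_smul_eq_stabilizer_map_conj]
      exact (Nat.card_congr ((stabilizer Y ω).equivMapOfInjective _
        (MulAut.conj g).injective).toEquiv).symm
  have h4 : 2 * ∑ δ ∈ O, Nat.card (D.subgroupOf Y ⊓ stabilizer Y δ : Subgroup Y) ≤ Nat.card Y := by
    rw [Finset.mul_sum, ← h3]
    exact Finset.sum_le_sum hstab
  omega

/-- The fixed points of the elements of `Y` outside `D` lie in one orbit of `Y`. -/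
theorem mem_orbit_of_fixed (hD : OneFix D Δ) {y y' : G} (hy : y ∈ Y) (hyD : y ∉ D) (hy' : y' ∈ Y)
    (hy'D : y' ∉ D) {ω ω' : Δ} (hω : y • ω = ω) (hω' : y' • ω' = ω') : ω' ∈ orbit Y ω := by
  by_contra hne
  have hdis : Disjoint (movers D Y ω) (movers D Y ω') := by
    rw [Set.disjoint_left]
    rintro x ⟨hx, δ, hδ, hxδ⟩ ⟨-, δ', hδ', hxδ'⟩
    have he := hD.2 _ hx δ δ' hxδ hxδ'
    subst he
    refine hne ?_
    rw [← orbit_eq_iff.2 hδ]
    exact mem_orbit_symm.1 hδ'
  have h1 := Set.ncard_union_eq hdis (Set.toFinite _) (Set.toFinite _)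
  have h2 : (movers D Y ω ∪ movers D Y ω').ncard ≤ ((D.subgroupOf Y : Set Y)ᶜ).ncard :=
    Set.ncard_le_ncard (by rintro x (⟨hx, -⟩ | ⟨hx, -⟩) <;> exact hx) (Set.toFinite _)
  have h3 := Set.ncard_add_ncard_compl (D.subgroupOf Y : Set Y)
  have h4 : 0 < (D.subgroupOf Y : Set Y).ncard :=
    (Set.ncard_pos (Set.toFinite _)).2 ⟨1, one_mem _⟩
  have := two_mul_movers hD hy hyD hω
  have := two_mul_movers hD hy' hy'D hω'
  omega

/-- The covering lemma: some point stabilizer in `Y` still covers `G/D`. -/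
theorem exists_covering (hD : OneFix D Δ) [Nonempty Δ] (hcov : Y ⊔ D = ⊤) :
    ∃ ω : Δ, (Y ⊓ stabilizer G ω) ⊔ D = ⊤ := by
  by_cases hDtop : D = ⊤
  · exact ⟨Classical.arbitrary Δ, by rw [hDtop, sup_top_eq]⟩
  obtain ⟨y0, hy0, hy0D⟩ := exists_not_mem hcov hDtop
  obtain ⟨ω, hω⟩ := hD.1 y0 hy0D
  refine ⟨ω, ?_⟩
  have hall : movers D Y ω = (D.subgroupOf Y : Set Y)ᶜ := by
    ext y
    refine ⟨fun h => h.1, fun h => ⟨h, ?_⟩⟩
    obtain ⟨δ, hδ⟩ := hD.1 (y : G) h
    exact ⟨δ, mem_orbit_of_fixed hD hy0 hy0D y.2 h hω hδ, hδ⟩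
  have h := ncard_movers hD (Y := Y) ω
  have h' := Set.ncard_add_ncard_compl (D.subgroupOf Y : Set Y)
  rw [← Nat.card_coe_set_eq] at h'
  rw [hall] at h
  set N := D.subgroupOf Y with hN
  set O := (Set.toFinite (orbit Y ω)).toFinset with hO
  set O1 := (Set.toFinite (orbit N ω)).toFinset with hO1
  have hsub : O1 ⊆ O := by
    intro δ hδ
    obtain ⟨n, rfl⟩ := (Set.Finite.mem_toFinset _).1 hδ
    exact (Set.Finite.mem_toFinset _).2 ⟨(n : Y), rfl⟩
  have hone : ∀ δ ∈ O1, O1.card * Nat.card (N ⊓ stabilizer Y δ : Subgroup Y) = Nat.card N := by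
    intro δ hδ
    have he : orbit N δ = orbit N ω := orbit_eq_iff.2 ((Set.Finite.mem_toFinset _).1 hδ)
    rw [hO1, ← Set.ncard_eq_toFinset_card, ← he, ← index_stabilizer,
      ← card_mul_index (stabilizer N δ), mul_comm]
    congr 1
    exact Nat.card_congr
      { toFun := fun x => ⟨⟨x.1, x.2.1⟩, x.2.2⟩
        invFun := fun x => ⟨x.1.1, x.1.2, x.2⟩
        left_inv := fun x => rfl
        right_inv := fun x => rfl }
  have hω1 : ω ∈ O1 := (Set.Finite.mem_toFinset _).2 (mem_orbit_self ω)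
  have hsum1 : ∑ δ ∈ O1, Nat.card (N ⊓ stabilizer Y δ : Subgroup Y) = Nat.card N := by
    refine Nat.eq_of_mul_eq_mul_left (Finset.card_pos.2 ⟨ω, hω1⟩) ?_
    rw [Finset.mul_sum, Finset.sum_congr rfl hone, Finset.sum_const, smul_eq_mul]
  have heq : O ⊆ O1 := by
    intro δ hδ
    by_contra hδ1
    have hlt : ∑ x ∈ O1, Nat.card (N ⊓ stabilizer Y x : Subgroup Y) <
        ∑ x ∈ O, Nat.card (N ⊓ stabilizer Y x : Subgroup Y) :=
      Finset.sum_lt_sum_of_subset hsub hδ hδ1 Nat.card_pos fun j _ _ => Nat.zero_le _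
    simp only [SetLike.coe_sort_coe] at h'
    omega
  rw [eq_top_iff]
  intro g _
  obtain ⟨y, hy, d, hd, rfl⟩ := exists_mul_of_sup_eq_top hcov g
  refine Subgroup.mul_mem _ ?_ (mem_sup_right hd)
  obtain ⟨⟨n, hn⟩, hnω⟩ := (Set.Finite.mem_toFinset _).1
    (heq ((Set.Finite.mem_toFinset _).2 (mem_orbit ω (⟨y, hy⟩ : Y))))
  have hz : (n : G)⁻¹ * y ∈ Y ⊓ stabilizer G ω := by
    refine ⟨Y.mul_mem (Y.inv_mem n.2) hy, ?_⟩
    show ((n : G)⁻¹ * y) • ω = ω
    rw [mul_smul, inv_smul_eq_iff]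
    exact hnω.symm
  have := Subgroup.mul_mem ((Y ⊓ stabilizer G ω) ⊔ D) (mem_sup_right (show (n : G) ∈ D from hn))
    (mem_sup_left hz)
  rwa [mul_inv_cancel_left] at this

end Covering

end CfsgLib.DerangeIndex
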